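import Groth.Agent.SGA6.K266.BlowAffK
import Groth.Agent.CohqA.RpushLoc
import Groth.Agent.PerfA.Restrict
import Groth.Agent.KRR.K535.KrImm

/-!
# The blow-up of a Koszul-regular closed subscheme: localization

`main`: `i : Y ⟶ X` a Koszul-regular closed immersion with nowhere dense image, `f : X' ⟶ X` the blow-up:
`R^q f_* (J'^n) = 0` for `n ≥ 0`, `q ≥ 1`, and `Γ(X, V) → Γ(X', f⁻¹ V)` is bijective for a basis of affine opens `V`.
-/

set_option autoImplicit false
universe u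

open CategoryTheory CategoryTheory.Limits AlgebraicGeometry BlowUp

namespace K266.BlowLocal

open Groth.Agent Groth.Agent.Divis Groth.Agent.Divis.BlowChart Groth.Agent.Divis.EffCartier

/-- `A → Γ(X')` is bijective if `b_* O_{X'} ≅ O` in any way. -/
theorem bijective_appTop {X X' : Scheme.{u}} (b : X' ⟶ X)
    (e : (Scheme.Modules.pushforward b).obj (Coh.structureModule X') ≅ Coh.structureModule X) :
    Function.Bijective b.appTop := by
  let S := Γ(X, ⊤)
  let B := Γ(X', ⊤)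
  let φ : S →+* B := b.appTop.hom
  let ε : B →+ S := (e.hom.app ⊤).hom
  have hε : Function.Bijective ε := ConcreteCategory.bijective_of_isIso (e.hom.app ⊤)
  have hlin : ∀ (s : S) (x : B), ε (φ s * x) = s * ε x := fun s x => e.hom.app_smul s x
  obtain ⟨β, hβ⟩ := hε.2 1
  have h1 : ∀ x : B, x = φ (ε x) * β := fun x => hε.1 (by rw [hlin, hβ, mul_one])
  have h2 : φ (ε 1) * β = 1 := (h1 1).symm
  have h3 : β * β = φ (ε (β * β)) * β := h1 _
  have h4 : ε 1 * ε (β * β) = 1 := by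
    have h5 : φ (ε 1 * ε (β * β)) * β = β := by
      rw [map_mul, mul_assoc, ← h3, ← mul_assoc, h2, one_mul]
    have h6 := congrArg ε h5
    rwa [hlin, hβ, mul_one] at h6
  have h7 : β = φ (ε (β * β)) := by
    calc β = β * (φ (ε 1) * β) := by rw [h2, mul_one]
      _ = φ (ε 1) * (β * β) := by ring
      _ = φ (ε 1) * (φ (ε (β * β)) * β) := by rw [← h3]
      _ = (φ (ε 1) * β) * φ (ε (β * β)) := by ring
      _ = φ (ε (β * β)) := by rw [h2, one_mul]
  constructor
  · intro s t hst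
    have h8 : ∀ s : S, ε (φ s) = s * ε 1 := fun s => by rw [← hlin, mul_one]
    have h9 : s * ε 1 = t * ε 1 := by
      rw [← h8, ← h8]
      exact congrArg ε hst
    calc s = s * ε 1 * ε (β * β) := by rw [mul_assoc, h4, mul_one]
      _ = t * ε 1 * ε (β * β) := by rw [h9]
      _ = t := by rw [mul_assoc, h4, mul_one]
  · intro x
    refine ⟨ε x * ε (β * β), ?_⟩
    change φ (ε x * ε (β * β)) = x
    rw [map_mul, ← h7, ← h1]

/-- Sections over an affine open from the base change to its spectrum. -/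
theorem bijective_app {X X' : Scheme.{u}} (f : X' ⟶ X) (V : X.affineOpens)
    (h : Function.Bijective (pullback.snd f V.2.fromSpec).appTop) : Function.Bijective (f.app V.1) := by
  let j := V.2.fromSpec
  let p1 := pullback.fst f j
  let p2 := pullback.snd f j
  have hjo : IsOpenImmersion j := IsAffineOpen.isOpenImmersion_fromSpec V.2
  have hp1 : IsOpenImmersion p1 := MorphismProperty.pullback_fst f j hjo
  have hp : p1 ≫ f = p2 ≫ j := pullback.condition
  have hjV : j ⁻¹ᵁ V.1 = ⊤ := V.2.fromSpec_preimage_self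
  have hle : (⊤ : (pullback f j).Opens) ≤ p1 ⁻¹ᵁ (f ⁻¹ᵁ V.1) := by
    intro x _
    change (p1 ≫ f) x ∈ V.1
    rw [hp]
    change p2 x ∈ j ⁻¹ᵁ V.1
    rw [hjV]
    trivial
  have hj : (⊤ : (Spec Γ(X, V.1)).Opens) ≤ j ⁻¹ᵁ V.1 := hjV.ge
  have h1 : f.app V.1 ≫ p1.appLE (f ⁻¹ᵁ V.1) ⊤ hle = (p1 ≫ f).appLE V.1 ⊤ hle := by
    rw [← Scheme.Hom.appLE_eq_app]
    exact Scheme.Hom.appLE_comp_appLE p1 f V.1 _ ⊤ _ _
  have h2 : j.appLE V.1 ⊤ hj ≫ p2.appLE ⊤ ⊤ (fun _ h => h) = (p2 ≫ j).appLE V.1 ⊤ (by rw [← hp]; exact hle) :=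
    Scheme.Hom.appLE_comp_appLE p2 j V.1 ⊤ ⊤ _ _
  have key : ∀ (k l : pullback f j ⟶ X) (_ : k = l) (a : ⊤ ≤ k ⁻¹ᵁ V.1) (b : ⊤ ≤ l ⁻¹ᵁ V.1),
      k.appLE V.1 ⊤ a = l.appLE V.1 ⊤ b := by
    rintro k _ rfl _ _
    rfl
  have h3 : f.app V.1 ≫ p1.appLE (f ⁻¹ᵁ V.1) ⊤ hle = j.appLE V.1 ⊤ hj ≫ p2.appLE ⊤ ⊤ (fun _ h => h) := by
    rw [h1, h2]
    exact key _ _ hp _ _
  have i1 : IsIso (j.appLE V.1 ⊤ hj) := by
    have := Scheme.Hom.isIso_app j V.1 (by rw [V.2.opensRange_fromSpec])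
    have e : IsIso ((Spec Γ(X, V.1)).presheaf.map (homOfLE hj).op) := by
      have : IsIso (homOfLE hj) := ⟨homOfLE hjV.le, Subsingleton.elim _ _, Subsingleton.elim _ _⟩
      infer_instance
    rw [Scheme.Hom.appLE]
    infer_instance
  have i2 : IsIso (p2.appLE ⊤ ⊤ (fun _ h => h)) := by
    have : IsIso p2.appTop := (ConcreteCategory.isIso_iff_bijective _).2 h
    have e : p2.appLE ⊤ ⊤ (fun _ h => h) = p2.appTop := Scheme.Hom.appLE_eq_app _
    rw [e]
    infer_instance
  have i3 : IsIso (p1.appLE (f ⁻¹ᵁ V.1) ⊤ hle) := by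
    have hr : f ⁻¹ᵁ V.1 ≤ p1.opensRange := by
      intro x hx
      have h4 : f x ∈ Set.range j := by
        rw [V.2.range_fromSpec]
        exact hx
      obtain ⟨y, hy⟩ := h4
      obtain ⟨p, hp, -⟩ := Scheme.Pullback.exists_preimage_pullback x y hy.symm
      exact ⟨p, hp⟩
    have := Scheme.Hom.isIso_app p1 (f ⁻¹ᵁ V.1) hr
    have e : IsIso ((pullback f j).presheaf.map (homOfLE hle).op) := by
      have : IsIso (homOfLE hle) := ⟨homOfLE le_top, Subsingleton.elim _ _, Subsingleton.elim _ _⟩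
      infer_instance
    rw [Scheme.Hom.appLE]
    infer_instance
  have i4 : IsIso (f.app V.1) := by
    have h5 : IsIso (f.app V.1 ≫ p1.appLE (f ⁻¹ᵁ V.1) ⊤ hle) := by
      rw [h3]
      infer_instance
    exact IsIso.of_isIso_comp_right _ (p1.appLE (f ⁻¹ᵁ V.1) ⊤ hle)
  exact ConcreteCategory.bijective_of_isIso (f.app V.1)

variable {X Y X' : Scheme.{u}}

/-- Affine opens on which the ideal is generated by a Koszul-regular sequence of length `≥ 1`. -/
theorem exists_adapted (i : Y ⟶ X) [IsClosedImmersion i] (hi : RegImm.IsRegularImmersion .koszul i)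
    (hdense : Dense (Set.range i)ᶜ) (x : X) (W : X.Opens) (hW : x ∈ W) :
    ∃ V : X.affineOpens, x ∈ V.1 ∧ V.1 ≤ W ∧ ∃ (r : ℕ) (a : Fin (r + 1) → Γ(X, V.1)),
      LCI.IsKoszulRegularSeq Γ(X, V.1) (List.ofFn a) ∧ i.ker.ideal V = Ideal.ofList (List.ofFn a) := by
  have hsupp : (i.ker.support : Set X) = Set.range i := by
    rw [Scheme.Hom.support_ker]
    exact i.isClosedEmbedding.isClosed_range.closure_eq
  by_cases hx : x ∈ Set.range i
  · obtain ⟨y, rfl⟩ := hx
    obtain ⟨c, hy, hcW⟩ := K535.KrImm.exists_chart hi y W hW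
    have hlen : c.l.length ≠ 0 := by
      intro h0
      have hnil : c.l = [] := List.length_eq_zero_iff.mp h0
      obtain ⟨z, hzc, hzU⟩ := hdense.inter_open_nonempty c.U c.U.isOpen ⟨_, hy⟩
      apply hzU
      rw [← hsupp]
      have h1 := (Scheme.IdealSheafData.mem_support_iff_of_mem (I := i.ker) (U := ⟨c.U, c.hU⟩) hzc).2
      apply h1
      rw [c.hker, hnil]
      simp
    obtain ⟨r, hr⟩ : ∃ r, c.l.length = r + 1 := ⟨c.l.length - 1, by omega⟩
    have h2 : List.ofFn (fun k : Fin (r + 1) => c.l.get (Fin.cast hr.symm k)) = c.l := by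
      conv_rhs => rw [← List.ofFn_get c.l]
      exact (List.ofFn_congr hr _).symm
    refine ⟨⟨c.U, c.hU⟩, hy, hcW, r, fun k => c.l.get (Fin.cast hr.symm k), ?_, ?_⟩
    · rw [h2]; exact c.hl
    · rw [h2]; exact c.hker
  · let W' : X.Opens := ⟨(Set.range i)ᶜ, i.isClosedEmbedding.isClosed_range.isOpen_compl⟩
    obtain ⟨V, hxV, hVW', hVW⟩ := Divis.CartierBasic.exists_affine_le (x := x) W' W hx hW
    have h1 : Ideal.ofList (List.ofFn fun _ : Fin (0 + 1) => (1 : Γ(X, V.1))) = ⊤ := by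
      simp [Ideal.ofList]
    refine ⟨V, hxV, hVW, 0, fun _ => 1, Flat2H.KoszulLoc.isKoszulRegularSeq_of_ofList_eq_top h1, ?_⟩
    rw [h1]
    exact Flat2C.EtaleCentre.ideal_eq_top_of_disjoint i.ker V fun x hxV' hxs => hVW' hxV' (hsupp ▸ hxs)

/-- **The blow-up of a Koszul-regular closed subscheme**: sections. -/
theorem bijective (i : Y ⟶ X) [IsClosedImmersion i] (f : X' ⟶ X) (hf : IsBlowUp f i.ker)
    (V : X.affineOpens) (r : ℕ) (a : Fin (r + 1) → Γ(X, V.1))
    (ha : LCI.IsKoszulRegularSeq Γ(X, V.1) (List.ofFn a)) (hJ : i.ker.ideal V = Ideal.ofList (List.ofFn a)) :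
    Function.Bijective (f.app V.1) := by
  have hb := Sga67.BlowCover.isBlowUp_snd hf V
  rw [hJ] at hb
  obtain ⟨e⟩ := (BlowAffK.main r a ha _ hb).2
  exact bijective_app f V (bijective_appTop _ e)

/-- **The blow-up of a Koszul-regular closed subscheme**: the unit. -/
theorem isIso_unit (i : Y ⟶ X) [IsClosedImmersion i] (hi : RegImm.IsRegularImmersion .koszul i)
    (hdense : Dense (Set.range i)ᶜ) (f : X' ⟶ X) (hf : IsBlowUp f i.ker) :
    IsIso ((Scheme.Modules.pullbackPushforwardAdjunction f).unit.app (Coh.structureModule X)) := by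
  have h : IsIso (Fga.UnitRestrict.unitToPush f) := by
    refine Sga67.LocBasis.isIso_of_bijective _ fun x U hx => ?_
    obtain ⟨V, hxV, hVU, r, a, ha, hJ⟩ := exists_adapted i hi hdense x U hx
    exact ⟨V.1, hVU, hxV, bijective i f hf V r a ha hJ⟩
  rw [← Fga.UnitRestrict.unit_pullbackUnitHom] at h
  exact IsIso.of_isIso_comp_right _
    ((Scheme.Modules.pushforward f).map (Fga.UnitRestrict.pullbackUnitHom f))

/-- **The blow-up of a Koszul-regular closed subscheme**: the higher direct images. -/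
theorem isZero (i : Y ⟶ X) [IsClosedImmersion i] (hi : RegImm.IsRegularImmersion .koszul i)
    (hdense : Dense (Set.range i)ᶜ) (f : X' ⟶ X) (hf : IsBlowUp f i.ker) (n q : ℕ) (hq : 1 ≤ q) :
    IsZero ((Coh.RpushAb f q).obj (Coh.toAb (ClSub.idealMod ((i.ker.comap f) ^ n)))) := by
  have := Dcoh.DerSch.hasInjectiveResolutions X'
  refine (Krr.H446.BlowDesc.van_iff_rpush f q _).2 ?_
  refine PerfA.Restrict.isZero_of_restrict _ fun x => ?_
  obtain ⟨V, hxV, -, r, a, ha, hJ⟩ := exists_adapted i hi hdense x ⊤ trivial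
  let j := V.2.fromSpec
  have hjo : IsOpenImmersion j := IsAffineOpen.isOpenImmersion_fromSpec V.2
  have hp1 : IsOpenImmersion (pullback.fst f j) := MorphismProperty.pullback_fst f j hjo
  obtain ⟨y, hy⟩ : x ∈ Set.range j := by
    rw [V.2.range_fromSpec]
    exact hxV
  refine ⟨_, j, hjo, y, hy, ?_⟩
  have := Dcoh.DerSch.hasInjectiveResolutions (pullback f j)
  have hb : IsBlowUp (pullback.snd f j) (idl (A := Γ(X, V.1)) (i.ker.ideal V)) := Sga67.BlowCover.isBlowUp_snd hf V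
  rw [hJ] at hb
  have hcomap : ((i.ker.comap f) ^ n).comap (pullback.fst f j) =
      ((idl (A := Γ(X, V.1)) (Ideal.ofList (List.ofFn a))).comap (pullback.snd f j)) ^ n := by
    rw [IdealComap.comap_pow, ← Scheme.IdealSheafData.comap_comp, pullback.condition,
      Scheme.IdealSheafData.comap_comp, Sga67.BlowCover.comap_fromSpec, hJ]
  have hE := isEff_pow hf.1 n
  have hE' : IsEffCartierIdeal (((i.ker.comap f) ^ n).comap (pullback.fst f j)) := by
    rw [hcomap]
    exact isEff_pow hb.1 n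
  obtain ⟨e⟩ := Dix.IdealModCartier.pullback_idealMod (pullback.fst f j) hE hE'
  rw [hcomap] at e
  have h := (Krr.H446.BlowDesc.van_iff_rpush _ q _).1 ((BlowAffK.main r a ha _ hb).1 n q hq)
  have sq : IsPullback (pullback.snd f j) (pullback.fst f j) j f := (IsPullback.of_hasPullback f j).flip
  exact h.of_iso ((CohqA.RpushLoc.rpushRes sq q).app _ ≪≫ (Coh.Rpush (pullback.snd f j) q).mapIso
    ((Scheme.Modules.restrictFunctorIsoPullback (pullback.fst f j)).app _ ≪≫ e))

end K266.BlowLocal
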