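import Groth.Agent.Sga67.HomInvAsm
import Groth.Agent.Sga67.CohDevissage
import Groth.Agent.Ega1.ReducedSub
import Groth.Agent.CycB.CohProp

/-!
# Coherent modules on the affine line killed by (a power of) the coordinate have class zero

* `mk_eq_zero_of_killed`: `[M] = 0` in `K₀(Coh 𝔸¹_T)` if `t M = 0`;
* `mk_eq_zero_of_restrict`: the same if `M` restricts to zero on `D(t)`.
-/

set_option autoImplicit false
universe u
open CategoryTheory CategoryTheory.Limits AlgebraicGeometry TopologicalSpace Opposite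

namespace K266.LineLoc

open Groth.Agent Groth.Agent.Sga67 Groth.Agent.Sga67.K0Loc Groth.Agent.Sga67.HomInvLine
  Groth.Agent.Sga67.HomInvB Groth.Agent.Sga67.K0Endo
open Groth.Agent.FormalA.PullbackQC (isCoh_pullback)

variable {X T : Scheme.{u}} {p : X ⟶ T} {t : Γ(X, ⊤)}

theorem mk_eq_zero_of_killed [IsNoetherian T] [IsNoetherian X] (h : IsLine p t) (M : X.Modules)
    (hM : cohT t M) : mk (coh X) M hM.1 = 0 := by
  have := h.flat
  have h1 := FlatPre.preservesFiniteLimits_pullback p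
  obtain ⟨x, hx⟩ := HomInvSurj.surjective_of_isLine p t h (isCoh_pullback p) (mk (coh X) M hM.1)
  have h2 := leftInverse h (isCoh_pullback p) x
  have h3 : sigma (endoHyp t) (mk (coh X) M hM.1) = 0 := by
    rw [sigma_mk, sub_eq_zero]
    refine mk_congr (endoHyp t) ?_ _ _
    have h4 : (tau t).app M = 0 := hM.2
    have e1 : cokernel ((tau t).app M) ≅ M :=
      cokernelIsoOfEq h4 ≪≫ cokernelZeroIsoTarget
    have e2 : kernel ((tau t).app M) ≅ M :=
      kernelIsoOfEq h4 ≪≫ kernelZeroIsoSource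
    exact e1 ≪≫ e2.symm
  have h4 : x = 0 := by
    rw [← h2]
    have h5 : SGA6.mapSub (Scheme.Modules.pullback p) (coh T) (coh X) (isCoh_pullback p) x =
      mk (coh X) M hM.1 := hx
    rw [h5, h3, map_zero]
  rw [← hx, h4, map_zero]

/-- The reduced closed subscheme where `t` vanishes. -/
noncomputable def zIdeal (t : Γ(X, ⊤)) : X.IdealSheafData :=
  Scheme.IdealSheafData.vanishingIdeal ⟨(X.basicOpen t : Set X)ᶜ, (X.basicOpen t).isOpen.isClosed_compl⟩

theorem range_zι (t : Γ(X, ⊤)) : Set.range (zIdeal t).subschemeι = (X.basicOpen t : Set X)ᶜ := by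
  rw [Scheme.IdealSheafData.range_subschemeι]
  exact Scheme.IdealSheafData.coe_support_vanishingIdeal _

theorem appTop_zι (t : Γ(X, ⊤)) : (zIdeal t).subschemeι.appTop t = 0 := by
  have := Ega1.ReducedSub.isReduced_subscheme_vanishingIdeal
    (⟨(X.basicOpen t : Set X)ᶜ, (X.basicOpen t).isOpen.isClosed_compl⟩ : Closeds X)
  have h1 : (zIdeal t).subscheme.basicOpen ((zIdeal t).subschemeι.appTop t) = ⊥ := by
    rw [← Scheme.preimage_basicOpen_top]
    ext x
    simp only [Scheme.Hom.coe_preimage, Set.mem_preimage, SetLike.mem_coe, Opens.coe_bot,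
      Set.mem_empty_iff_false, iff_false]
    have h2 : (zIdeal t).subschemeι x ∈ (X.basicOpen t : Set X)ᶜ := by
      rw [← range_zι]; exact ⟨x, rfl⟩
    exact h2
  have : IsReduced (zIdeal t).subscheme := this
  exact (basicOpen_eq_bot_iff _).1 h1

theorem tau_push {Z : Scheme.{u}} (i : Z ⟶ X) (t : Γ(X, ⊤)) (ht : i.appTop t = 0) (G : Z.Modules) :
    (tau t).app ((Scheme.Modules.pushforward i).obj G) = 0 := by
  refine Scheme.Modules.hom_ext _ _ fun U => ?_
  ext m
  rw [tau_app]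
  have h1 : i.app U (X.presheaf.map (homOfLE (le_top : U ≤ ⊤)).op t) = 0 := by
    have h2 := ConcreteCategory.congr_hom (i.naturality (homOfLE (le_top : U ≤ ⊤)).op) t
    have h3 : i.app U (X.presheaf.map (homOfLE (le_top : U ≤ ⊤)).op t) =
      Z.presheaf.map ((Opens.map i.base).op.map (homOfLE (le_top : U ≤ ⊤)).op) (i.app ⊤ t) := h2
    rw [h3]
    have h4 : i.app ⊤ t = 0 := ht
    rw [h4, map_zero]
  have h5 : X.presheaf.map (homOfLE (le_top : U ≤ ⊤)).op t • m =
      (show Γ(G, i ⁻¹ᵁ U) from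
        (i.app U (X.presheaf.map (homOfLE (le_top : U ≤ ⊤)).op t)) • (show Γ(G, i ⁻¹ᵁ U) from m)) := rfl
  rw [h5, h1, zero_smul]
  rfl

theorem mk_eq_zero_of_restrict [IsNoetherian T] [IsNoetherian X] (h : IsLine p t) {U : Scheme.{u}}
    (j : U ⟶ X) [IsOpenImmersion j] (hU : Set.range j = (X.basicOpen t : Set X))
    (M : X.Modules) (hM : Coh.IsCoh M) (h0 : IsZero ((Scheme.Modules.restrictFunctor j).obj M)) :
    mk (coh X) M hM = 0 := by
  have key : ∃ hM : Coh.IsCoh M, mk (coh X) M hM = 0 := by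
    refine CohDevissage.devissage (zIdeal t).subschemeι (fun M => ∃ hM : Coh.IsCoh M, mk (coh X) M hM = 0)
      ?_ ?_ ?_ j (by rw [range_zι, compl_compl, hU]) M hM h0
    · rintro M N e ⟨hM, h0⟩
      refine ⟨CohBasic.isCoh_of_iso e hM, ?_⟩
      rw [← h0]
      exact FibreSurj.mk_iso e.symm _ _
    · rintro S hS ⟨h1, e1⟩ ⟨h3, e3⟩
      have h2 : Coh.IsCoh S.X₂ := CycB.CohProp.isCoh_extension S hS h1 h3
      refine ⟨h2, ?_⟩
      rw [mk_shortExact hS h1 h2 h3, e1, e3, add_zero]
    · intro G hG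
      have h1 : Coh.IsCoh ((Scheme.Modules.pushforward (zIdeal t).subschemeι).obj G) := by
        exact S0019.result (zIdeal t).subschemeι G hG
      exact ⟨h1, mk_eq_zero_of_killed h _ ⟨h1, tau_push _ t (appTop_zι t) G⟩⟩
  obtain ⟨_, h⟩ := key
  exact h

end K266.LineLoc
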