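import Groth.Agent.Krr.H482.PullLambda
import Groth.Agent.Dcoh.FinLocFree

/-!
# The ring `K₀` of finite locally free modules and its pull-backs

`KR X` is the ring of `Sga67.KvbRing`, `κ E` the class of `E`, `pull f : KR Y →+* KR X`. No hypothesis on the schemes.
-/

set_option autoImplicit false

universe u

open CategoryTheory CategoryTheory.Limits AlgebraicGeometry
open scoped ZeroObject

namespace K266.KRing

open Groth.Agent.Sga67.KvbRing Groth.Agent.Krr.H482.PullLambda Groth.Agent.Sga67.LocBasis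
  Groth.Agent.Sga67.TensorOps KRR

variable {X Y Z : Scheme.{u}}

/-- The class of `E` in the ring `KR X`. -/
noncomputable def κ (E : X.Modules) : KR X := toKR X (cl X E)

theorem κ_iso {E F : X.Modules} (e : E ≅ F) (hE : FlatMod.IsFinLocFree E) : κ E = κ F :=
  congrArg (toKR X) (cl_iso e hE)

theorem κ_one : κ (Coh.structureModule X) = 1 := rfl

theorem κ_tensor {E F : X.Modules} (hE : FlatMod.IsFinLocFree E) (hF : FlatMod.IsFinLocFree F) :
    κ (CohB1.tensorMod E F) = κ E * κ F :=
  (congrArg (toKR X) (mul_c E F hE hF)).symm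

theorem κ_ses {S : ShortComplex X.Modules} (hS : S.ShortExact)
    (h₁ : FlatMod.IsFinLocFree S.X₁) (h₂ : FlatMod.IsFinLocFree S.X₂)
    (h₃ : FlatMod.IsFinLocFree S.X₃) : κ S.X₂ = κ S.X₁ + κ S.X₃ :=
  (congrArg (toKR X) (c_ses hS h₁ h₂ h₃)).trans (map_add (toKR X) _ _)

theorem κ_isZero {E : X.Modules} (hE : IsZero E) : κ E = 0 := by
  have h2 : cl X E = 0 := Groth.Agent.Sga67.K0Basic.clSub_of_isZero hE
  rw [κ, h2, map_zero]

theorem induction {C : KR X → Prop}
    (hcl : ∀ E : X.Modules, FlatMod.IsFinLocFree E → C (κ E))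
    (hsub : ∀ x y, C x → C y → C (x - y)) (x : KR X) : C x := by
  have h0 : C 0 := by
    have := hcl _ (isFinLocFree_structureModule (X := X))
    have h := hsub _ _ this this
    rwa [sub_self] at h
  refine K_induction (C := fun x : SGA6.Kvb X => C (toKR X x)) h0 hcl (fun x hx => ?_) (fun x y hx hy => ?_) x
  · have := hsub _ _ h0 hx
    rwa [zero_sub, ← map_neg] at this
  · have h1 := hsub _ _ h0 hy
    have := hsub _ _ hx h1
    rwa [zero_sub, sub_neg_eq_add, ← map_add] at this

theorem hom_ext {A : Type*} [AddCommGroup A] {f g : KR X →+ A}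
    (h : ∀ E : X.Modules, FlatMod.IsFinLocFree E → f (κ E) = g (κ E)) : f = g := by
  refine DFunLike.ext _ _ fun x => ?_
  refine induction (C := fun x => f x = g x) h (fun x y hx hy => ?_) x
  rw [map_sub, map_sub, hx, hy]

/-- A homomorphism out of `KR X` from an additive function. -/
noncomputable def liftR {A : Type*} [AddCommGroup A] (f : X.Modules → A)
    (hf : ∀ S : ShortComplex X.Modules, FlatMod.IsFinLocFree S.X₁ → FlatMod.IsFinLocFree S.X₂ →
      FlatMod.IsFinLocFree S.X₃ → S.ShortExact → f S.X₂ = f S.X₁ + f S.X₃) : KR X →+ A :=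
  (lift (fun E => f E.1) (fun S h₁ h₂ h₃ hS => hf S h₁ h₂ h₃ hS)).comp (toKR X).symm.toAddMonoidHom

theorem liftR_κ {A : Type*} [AddCommGroup A] (f : X.Modules → A)
    (hf : ∀ S : ShortComplex X.Modules, FlatMod.IsFinLocFree S.X₁ → FlatMod.IsFinLocFree S.X₂ →
      FlatMod.IsFinLocFree S.X₃ → S.ShortExact → f S.X₂ = f S.X₁ + f S.X₃) {E : X.Modules}
    (hE : FlatMod.IsFinLocFree E) : liftR f hf (κ E) = f E :=
  lift_c (fun E => f E.1) (fun S h₁ h₂ h₃ hS => hf S h₁ h₂ h₃ hS) E hE

/-- Every element is a difference of two classes. -/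
theorem exists_eq_sub (x : KR X) : ∃ E F : X.Modules, FlatMod.IsFinLocFree E ∧ FlatMod.IsFinLocFree F ∧
    x = κ E - κ F := by
  have h0 : FlatMod.IsFinLocFree (0 : X.Modules) :=
    Groth.Agent.Dcoh.FinLocFree.isFinLocFree_of_isZero (isZero_zero _)
  have : ObjectProperty.ContainsZero (fun M : X.Modules => FlatMod.IsFinLocFree M) := ⟨0, isZero_zero _, h0⟩
  obtain ⟨E, F, hE, hF, h⟩ := Groth.Agent.Sga67.K0Basic.exists_eq_sub
    (P := fun M : X.Modules => FlatMod.IsFinLocFree M)
    (fun E F hE hF => Groth.Agent.Dcoh.FinLocFree.isFinLocFree_biprod hE hF) ((toKR X).symm x)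
  refine ⟨E, F, hE, hF, ?_⟩
  rw [← (toKR X).apply_symm_apply x, h, map_sub]
  rfl

/-- The pull-back, additive version. -/
noncomputable def pullA (f : X ⟶ Y) : KR Y →+ KR X :=
  ((toKR X).toAddMonoidHom.comp (Groth.Agent.Krr.H496.PullK0.pullK0 f)).comp (toKR Y).symm.toAddMonoidHom

theorem pullA_κ (f : X ⟶ Y) {E : Y.Modules} (hE : FlatMod.IsFinLocFree E) :
    pullA f (κ E) = κ ((Scheme.Modules.pullback f).obj E) :=
  congrArg (toKR X) (Groth.Agent.Krr.H496.PullK0.pullK0_cl f hE)

theorem pullA_one (f : X ⟶ Y) : pullA f 1 = 1 := by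
  rw [← κ_one, pullA_κ f isFinLocFree_structureModule, ← κ_one]
  exact κ_iso (Groth.Agent.Krr.H482.PullTens.pullUnitIso f) (isFinLocFree_pullback f isFinLocFree_structureModule)

theorem pullA_mul (f : X ⟶ Y) (x y : KR Y) : pullA f (x * y) = pullA f x * pullA f y := by
  refine induction (C := fun x => pullA f (x * y) = pullA f x * pullA f y) (fun E hE => ?_)
    (fun a b ha hb => ?_) x
  · refine induction (C := fun y => pullA f (κ E * y) = pullA f (κ E) * pullA f y)
      (fun F hF => ?_) (fun a b ha hb => ?_) y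
    · rw [← κ_tensor hE hF, pullA_κ f hE, pullA_κ f hF, pullA_κ f (isFinLocFree_tensorMod hE hF),
        ← κ_tensor (isFinLocFree_pullback f hE) (isFinLocFree_pullback f hF)]
      exact κ_iso (Groth.Agent.Krr.H482.PullTens.pullTensorIso f E F) (isFinLocFree_pullback f (isFinLocFree_tensorMod hE hF))
    · rw [mul_sub, map_sub, ha, hb, map_sub, mul_sub]
  · rw [sub_mul, map_sub, ha, hb, map_sub, sub_mul]

/-- The pull-back as a ring homomorphism. -/
noncomputable def pull (f : X ⟶ Y) : KR Y →+* KR X :=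
  { pullA f with
    map_one' := pullA_one f
    map_mul' := pullA_mul f }

theorem pull_κ (f : X ⟶ Y) {E : Y.Modules} (hE : FlatMod.IsFinLocFree E) :
    pull f (κ E) = κ ((Scheme.Modules.pullback f).obj E) := pullA_κ f hE

end K266.KRing
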