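import Groth.Agent.SGA6.K266.PBRing
import Groth.Agent.Krr.H488.Serre
import Groth.Agent.Krr.H484.PBCharts
import Groth.Agent.S2122

/-!
# The projective bundle theorem for vector bundles over a quasi-compact base
-/

set_option autoImplicit false

universe u v w

open CategoryTheory CategoryTheory.Limits AlgebraicGeometry Finset Filter

namespace K266.PBFinal

open Groth.Agent Groth.Agent.Sga67.KvbRing K266.KRing K266.PBRing

theorem vb_of_inv {X : Scheme.{u}} {L : X.Modules} (h : PicF.IsInvertible L) : FlatMod.IsFinLocFree L := by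
  have h1 := Ega2.QCohLocal.isFinLocFreeOfRank_one_iff.2 h
  exact Krr.H495.Rank.isFinLocFree_of_rank h1

theorem κ_inverse {P : Scheme.{u}} {O1 Oinv : P.Modules} (hO : PicF.IsInvertible O1)
    (hinv : ClSub.IsInverseOf Oinv O1) : κ Oinv = ((ell hO)⁻¹ : (KR P)ˣ) := by
  obtain ⟨e⟩ := hinv
  have h1 : PicF.IsInvertible Oinv := Groth.Agent.S2122.result Oinv O1 e
  have h2 : κ Oinv * κ O1 = 1 := by
    rw [← κ_tensor (vb_of_inv h1) (vb_of_inv hO), ← κ_one]
    exact κ_iso e (Sga67.LocBasis.isFinLocFree_tensorMod (vb_of_inv h1) (vb_of_inv hO))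
  rw [← ell_val hO] at h2
  exact Units.eq_inv_of_mul_eq_one_right h2

theorem κ_pow {P : Scheme.{u}} {L : P.Modules} (hL : PicF.IsInvertible L) (i : ℕ) :
    FlatMod.IsFinLocFree (CohB1.tensorPow L i) ∧ κ (CohB1.tensorPow L i) = κ L ^ i := by
  induction i with
  | zero => exact ⟨Sga67.TensorOps.isFinLocFree_structureModule, by rw [pow_zero]; rfl⟩
  | succ i ih =>
    refine ⟨Sga67.LocBasis.isFinLocFree_tensorMod ih.1 (vb_of_inv hL), ?_⟩
    rw [pow_succ, ← ih.2, ← κ_tensor ih.1 (vb_of_inv hL)]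
    rfl

theorem subsingleton_of_isEmpty {P : Scheme.{u}} [IsEmpty P] : Subsingleton (KR P) := by
  refine ⟨fun a b => ?_⟩
  have h : ∀ a : KR P, a = 0 := fun a => by
    refine induction (C := fun a => a = 0) (fun E hE => ?_) (fun x y hx hy => by rw [hx, hy, sub_zero]) a
    refine κ_isZero ?_
    exact Krr.H495.Rank.isZero_of_rank_zero (fun x => isEmptyElim x)
  rw [h a, h b]

theorem isEmpty_of_rank_zero {T P : Scheme.{u}} {E : T.Modules} (hE : FlatMod.IsFinLocFreeOfRank 0 E)
    {π : P ⟶ T} {O1 : P.Modules} {q : (Scheme.Modules.pullback π).obj E ⟶ O1}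
    (hPB : KRR.IsProjBundle π E O1 q) : IsEmpty P := by
  have h0 : IsZero E := Krr.H495.Rank.isZero_of_rank_zero hE
  have h1 : IsZero ((Scheme.Modules.pullback π).obj E) := (Scheme.Modules.pullback π).map_isZero h0
  have := hPB.epi
  have h2 : IsZero O1 := by
    rw [IsZero.iff_id_eq_zero, ← cancel_epi q]
    exact h1.eq_of_src _ _
  refine ⟨fun x => ?_⟩
  have h3 := Krr.H495.Rank.rk_of_rank hPB.invertible x
  have h4 : FlatMod.IsFinLocFreeOfRank 0 O1 := by
    intro x
    refine ⟨⊤, trivial, ⟨?_⟩⟩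
    exact (IsZero.of_iso ((Scheme.Modules.restrictFunctor _).map_isZero h2) (Iso.refl _)).iso
      (Dcoh.FinLocFree.isZero_freeMod_zero _)
  have h5 := Krr.H495.Rank.rk_of_rank h4 x
  omega

theorem main (T P : Scheme.{u}) [CompactSpace T]
    (r : ℕ) (E : T.Modules) (hE : FlatMod.IsFinLocFreeOfRank r E)
    (π : P ⟶ T) (O1 : P.Modules) (q : (Scheme.Modules.pullback π).obj E ⟶ O1) (hPB : KRR.IsProjBundle π E O1 q)
    (Oinv : P.Modules) (hinv : ClSub.IsInverseOf Oinv O1)
    (G : Fin r → (SGA6.Kvb T →+ SGA6.Kvb P))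
    (hG : ∀ (i : Fin r) (N : T.Modules), FlatMod.IsFinLocFree N →
      G i (KRR.cl T N) = KRR.cl P (CohB1.tensorMod (CohB1.tensorPow Oinv (i : ℕ)) ((Scheme.Modules.pullback π).obj N))) :
    Function.Bijective (fun a : Fin r → SGA6.Kvb T => ∑ i : Fin r, G i (a i)) := by
  rcases r with _ | r
  · have := isEmpty_of_rank_zero hE hPB
    have h1 : Subsingleton (SGA6.Kvb P) := subsingleton_of_isEmpty (P := P)
    exact ⟨fun a b _ => Subsingleton.elim _ _, fun y => ⟨fun i => i.elim0, Subsingleton.elim _ _⟩⟩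
  · obtain ⟨ι, hι, A, hA, h, j, hh, hsurj, hpb, hO1⟩ := Groth.Agent.Krr.H484.PBCharts.exists_charts hE hPB
    have hO : PicF.IsInvertible O1 := Groth.Agent.Ega2.QCohLocal.isFinLocFreeOfRank_one_iff.1 hPB.invertible
    let 𝔸 : Groth.Agent.Krr.H488.Atlas.Atlas r π O1 A h := ⟨j, hpb, hsurj, hO1⟩
    have h1 := bijective_inv 𝔸 hO (fun i => Groth.Agent.Krr.H488.Serre.serreProp r (A i))
    have hG' : ∀ (i : Fin (r + 1)) (x : SGA6.Kvb T), toKR P (G i x) =
        pull π (toKR T x) * ((((ell hO)⁻¹ : (KR P)ˣ) : KR P)) ^ (i : ℕ) := by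
      intro i x
      have hI : PicF.IsInvertible Oinv := by
        obtain ⟨e⟩ := hinv
        exact Groth.Agent.S2122.result Oinv O1 e
      refine induction (X := T) (C := fun x => toKR P (G i ((toKR T).symm x)) =
        pull π x * ((((ell hO)⁻¹ : (KR P)ˣ) : KR P)) ^ (i : ℕ)) (fun N hN => ?_) (fun a b ha hb => ?_) (toKR T x)
      · have h2 : toKR P (G i (KRR.cl T N)) = κ (CohB1.tensorMod (CohB1.tensorPow Oinv (i : ℕ))
          ((Scheme.Modules.pullback π).obj N)) := congrArg (toKR P) (hG i N hN)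
        refine h2.trans ?_
        rw [κ_tensor (κ_pow hI i).1 (Krr.H482.PullLambda.isFinLocFree_pullback π hN), (κ_pow hI i).2,
          κ_inverse hO hinv, pull_κ π hN, mul_comm]
      · rw [map_sub, map_sub, map_sub, map_sub, sub_mul, ha, hb]
    have h2 : (fun a : Fin (r + 1) → SGA6.Kvb T => ∑ i : Fin (r + 1), G i (a i)) =
        (toKR P).symm ∘ (fun a : Fin (r + 1) → KR T =>
          ∑ i : Fin (r + 1), pull π (a i) * ((((ell hO)⁻¹ : (KR P)ˣ) : KR P)) ^ (i : ℕ)) ∘
          (fun a : Fin (r + 1) → SGA6.Kvb T => fun i => toKR T (a i)) := by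
      funext a
      simp only [Function.comp_apply]
      rw [AddEquiv.eq_symm_apply, map_sum]
      exact sum_congr rfl fun i _ => hG' i (a i)
    rw [h2]
    refine (toKR P).symm.bijective.comp (h1.comp ?_)
    exact (Equiv.arrowCongr (Equiv.refl _) (toKR T).toEquiv).bijective

end K266.PBFinal
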