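import Groth.Prelude.Def_SGA6
import Groth.Prelude.Def_ChowK
import Groth.Agent.Sga67.K0Basic
import Groth.Agent.Fga.MultForm
import Groth.Agent.Fga.DimLt
import Groth.Agent.CycB.ClosSheaf
import Groth.Agent.CycB.CohStalk

/-!
# The filtration of `K₀(Coh X)` by the dimension of the support

* `cl_mem_closure`: classes of coherent modules with support of dimension `≤ n` are generated by the classes of
  the structure sheaves of the reduced closures of points of dimension `≤ n`;
* `cl_sub_sum_mem`: `[F] - Σ length(F_x) [O_{Z(x)}]` is in the subgroup generated by the modules of smaller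
  dimension.
-/

set_option autoImplicit false
universe u
open CategoryTheory CategoryTheory.Limits AlgebraicGeometry TopologicalSpace

namespace K266.DimFilt

open Groth.Agent Groth.Agent.Sga67.K0Basic Groth.Agent.Ega3B.Devissage Groth.Agent.Fga.MultForm

variable {X : Scheme.{u}}

/-- The object property `coherent`. -/
abbrev cohP (X : Scheme.{u}) : ObjectProperty X.Modules := fun M : X.Modules => Coh.IsCoh M

theorem support_closureStructureSheaf (y : X) :
    CohB1.support (Cyc.closureStructureSheaf y) = closure {y} := by
  ext x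
  rw [← specializes_iff_mem_closure, ← CycB.ClosSheaf.nontrivial_stalk_iff]
  exact not_subsingleton_iff_nontrivial

theorem isSimpleModule_stalk_self (y : X) :
    IsSimpleModule (X.presheaf.stalk y) ((Cyc.closureStructureSheaf y).presheaf.stalk y) :=
  Module.length_eq_one_iff.1 (CycB.ClosSheaf.length_stalk_self y)

/-- Two-out-of-three for membership of the class in a subgroup. -/
theorem twoOfThree_mem (T : Set X) (H : AddSubgroup (SGA6.Kcoh X)) :
    TwoOfThree T (fun M : X.Modules => KZero.clSub (cohP X) M ∈ H) := by
  intro S hS h1 h2 h3 _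
  have h := clSub_of_shortExact (P := cohP X) S hS h1 h2 h3
  refine ⟨fun a b => ?_, fun a b => ?_, fun a b => ?_⟩
  · have h' : KZero.clSub (cohP X) S.X₃ = KZero.clSub (cohP X) S.X₂ - KZero.clSub (cohP X) S.X₁ := by
      rw [h]; abel
    simp only [h']
    exact H.sub_mem b a
  · simp only [h]
    exact H.add_mem a b
  · have h' : KZero.clSub (cohP X) S.X₁ = KZero.clSub (cohP X) S.X₂ - KZero.clSub (cohP X) S.X₃ := by
      rw [h]; abel
    simp only [h']
    exact H.sub_mem a b

theorem cl_mem_closure [IsNoetherian X] (n : ℕ) (G : X.Modules) (hG : Coh.IsCoh G)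
    (hd : topologicalKrullDim ↥(CohB1.support G) ≤ n) :
    KZero.clSub (cohP X) G ∈ AddSubgroup.closure {c : KZero.K0sub (cohP X) |
        ∃ x : ↥X, topologicalKrullDim ↥(closure ({x} : Set ↥X)) ≤ n ∧
          c = KZero.clSub (cohP X) (Cyc.closureStructureSheaf x)} := by
  refine devissage (CohB1.support G) (isClosed_support hG)
    (fun M => KZero.clSub (cohP X) M ∈ AddSubgroup.closure _) ?_ (twoOfThree_mem _ _) ?_ G hG subset_rfl
  · intro M hM
    simp only [clSub_of_isZero hM]
    exact zero_mem _
  · intro y hy
    have h1 : closure {y} ⊆ CohB1.support G :=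
      closure_minimal (Set.singleton_subset_iff.2 hy) (isClosed_support hG)
    refine ⟨Cyc.closureStructureSheaf y, CycB.ClosSheaf.isCoh_closureStructureSheaf y,
      AddSubgroup.subset_closure ⟨y, ?_, rfl⟩, (support_closureStructureSheaf y).subset,
      isSimpleModule_stalk_self y⟩
    exact (Fga.DimLt.topologicalKrullDim_mono h1).trans hd

/-- In a closed set of dimension `≤ n`, a point whose closure has dimension `n` has no proper generization. -/
theorem eq_of_specializes_of_dim {T : Set X} (hT : IsClosed T) {n : ℕ} (hd : topologicalKrullDim ↥T ≤ n)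
    {x z : X} (hx : topologicalKrullDim ↥(closure ({x} : Set ↥X)) = n) (hz : z ∈ T) (h : z ⤳ x) : z = x := by
  have h1 : closure ({x} : Set X) ⊆ closure {z} :=
    closure_minimal (Set.singleton_subset_iff.2 (specializes_iff_mem_closure.1 h)) isClosed_closure
  have h2 : closure ({z} : Set X) ⊆ T := closure_minimal (Set.singleton_subset_iff.2 hz) hT
  by_contra hne
  have h3 : closure ({x} : Set X) ≠ closure {z} := by
    intro e
    apply hne
    have h4 : x ⤳ z := specializes_iff_mem_closure.2 (by rw [e]; exact subset_closure rfl)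
    exact (h.antisymm h4).eq
  have h4 := Fga.DimLt.topologicalKrullDim_lt (d := n) (isIrreducible_singleton (x := z)).closure isClosed_closure h1 h3
    (lt_of_le_of_lt ((Fga.DimLt.topologicalKrullDim_mono h2).trans hd) (by exact_mod_cast Nat.lt_succ_self n))
  rw [hx] at h4
  exact lt_irrefl _ h4

theorem finite_gen [IsNoetherian X] {T : Set X} (hT : IsClosed T) {n : ℕ} (hd : topologicalKrullDim ↥T ≤ n) :
    {x : X | x ∈ T ∧ topologicalKrullDim ↥(closure ({x} : Set ↥X)) = n}.Finite := by
  obtain ⟨S, hfin, hcl, hirr, hCS⟩ := NoetherianSpace.exists_finite_set_isClosed_irreducible hT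
  have key : ∀ t : S, ∃ z : X, IsGenericPoint z (t : Set X) := fun t ↦
    QuasiSober.sober (hirr _ t.2) (hcl _ t.2)
  choose z hz using key
  have := hfin.to_subtype
  refine (Set.finite_range z).subset ?_
  rintro x ⟨hxT, hx⟩
  rw [hCS] at hxT
  obtain ⟨t, ht, hxt⟩ := hxT
  refine ⟨⟨t, ht⟩, eq_of_specializes_of_dim hT hd hx ?_ ((hz ⟨t, ht⟩).specializes hxt)⟩
  rw [hCS]
  exact ⟨t, ht, (hz ⟨t, ht⟩).mem⟩

theorem length_ne_top [IsNoetherian X] {T : Set X} (hT : IsClosed T) {n : ℕ} (hd : topologicalKrullDim ↥T ≤ n)
    {M : X.Modules} (hM : Coh.IsCoh M) (hMT : CohB1.support M ⊆ T) {x : X}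
    (hx : topologicalKrullDim ↥(closure ({x} : Set ↥X)) = n) : len M x ≠ ⊤ :=
  (CycB.CohStalk.length_stalk_lt_top M hM x fun _ hz h =>
    eq_of_specializes_of_dim hT hd hx (hMT (not_subsingleton_iff_nontrivial.2 hz)) h).ne

/-- The subgroup generated by the modules of dimension `< n`. -/
noncomputable abbrev filtLt (X : Scheme.{u}) (n : ℕ) : AddSubgroup (SGA6.Kcoh X) :=
  AddSubgroup.closure {c : KZero.K0sub (cohP X) |
        ∃ G : X.Modules, Coh.IsCoh G ∧ topologicalKrullDim ↥(CohB1.support G) < n ∧ c = KZero.clSub (cohP X) G}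

theorem cl_sub_sum_mem_aux [IsNoetherian X] (n : ℕ) {T : Set X} (hT : IsClosed T)
    (hd : topologicalKrullDim ↥T ≤ n) (s : Finset X)
    (hs : ∀ x, x ∈ s ↔ x ∈ T ∧ topologicalKrullDim ↥(closure ({x} : Set ↥X)) = n)
    (F : X.Modules) (hF : Coh.IsCoh F) (hFT : CohB1.support F ⊆ T) :
    KZero.clSub (cohP X) F -
      ∑ x ∈ s, (len F x).toNat • KZero.clSub (cohP X) (Cyc.closureStructureSheaf x) ∈ filtLt X n := by
  classical
  refine devissage T hT
    (fun M => KZero.clSub (cohP X) M -
      ∑ x ∈ s, (len M x).toNat • KZero.clSub (cohP X) (Cyc.closureStructureSheaf x) ∈ filtLt X n) ?_ ?_ ?_ F hF hFT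
  · intro M hM
    have h1 : ∀ x : X, len M x = 0 := fun x => len_eq_zero (by
      rw [CohqB.DevSupport.support_eq_empty_of_isZero hM]; exact fun h => h)
    simp only [clSub_of_isZero hM, h1]
    simp
  · intro S hS h1 h2 h3 hST
    have hS1 : CohB1.support S.X₁ ⊆ T := by
      have := hS.mono_f
      exact (support_subset_of_mono S.f).trans hST
    have hS3 : CohB1.support S.X₃ ⊆ T := by
      have := hS.epi_g
      exact (support_subset_of_epi S.g).trans hST
    have h := clSub_of_shortExact (P := cohP X) S hS h1 h2 h3
    have hl : ∑ x ∈ s, (len S.X₂ x).toNat • KZero.clSub (cohP X) (Cyc.closureStructureSheaf x) =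
        ∑ x ∈ s, (len S.X₁ x).toNat • KZero.clSub (cohP X) (Cyc.closureStructureSheaf x) +
        ∑ x ∈ s, (len S.X₃ x).toNat • KZero.clSub (cohP X) (Cyc.closureStructureSheaf x) := by
      rw [← Finset.sum_add_distrib]
      refine Finset.sum_congr rfl fun x hx => ?_
      rw [len_shortExact hS x, ENat.toNat_add (length_ne_top hT hd h1 hS1 ((hs x).1 hx).2)
        (length_ne_top hT hd h3 hS3 ((hs x).1 hx).2), add_smul]
    have key : KZero.clSub (cohP X) S.X₂ -
        ∑ x ∈ s, (len S.X₂ x).toNat • KZero.clSub (cohP X) (Cyc.closureStructureSheaf x) =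
        (KZero.clSub (cohP X) S.X₁ -
          ∑ x ∈ s, (len S.X₁ x).toNat • KZero.clSub (cohP X) (Cyc.closureStructureSheaf x)) +
        (KZero.clSub (cohP X) S.X₃ -
          ∑ x ∈ s, (len S.X₃ x).toNat • KZero.clSub (cohP X) (Cyc.closureStructureSheaf x)) := by
      rw [h, hl]; abel
    refine ⟨fun a b => ?_, fun a b => ?_, fun a b => ?_⟩
    · have h' := (filtLt X n).sub_mem b a
      rw [key] at h'
      simpa using h'
    · simp only [key]
      exact (filtLt X n).add_mem a b
    · have h' := (filtLt X n).sub_mem a b
      rw [key] at h'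
      simpa using h'
  · intro y hy
    have h1 : closure {y} ⊆ T := closure_minimal (Set.singleton_subset_iff.2 hy) hT
    refine ⟨Cyc.closureStructureSheaf y, CycB.ClosSheaf.isCoh_closureStructureSheaf y, ?_,
      (support_closureStructureSheaf y).subset, isSimpleModule_stalk_self y⟩
    by_cases hdy : topologicalKrullDim ↥(closure ({y} : Set ↥X)) = n
    · have hys : y ∈ s := (hs y).2 ⟨hy, hdy⟩
      have h2 : ∑ x ∈ s, (len (Cyc.closureStructureSheaf y) x).toNat •
          KZero.clSub (cohP X) (Cyc.closureStructureSheaf x) =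
          KZero.clSub (cohP X) (Cyc.closureStructureSheaf y) := by
        rw [Finset.sum_eq_single_of_mem y hys]
        · rw [len, CycB.ClosSheaf.length_stalk_self y]
          simp
        · intro x hx hne
          rw [len_eq_zero]
          · simp
          · rw [support_closureStructureSheaf, ← specializes_iff_mem_closure]
            intro hyx
            exact hne (eq_of_specializes_of_dim hT hd ((hs x).1 hx).2 hy hyx).symm
      simp only [h2, sub_self]
      exact zero_mem _
    · have hlt : topologicalKrullDim ↥(closure ({y} : Set ↥X)) < n :=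
        lt_of_le_of_ne ((Fga.DimLt.topologicalKrullDim_mono h1).trans hd) hdy
      have h2 : ∑ x ∈ s, (len (Cyc.closureStructureSheaf y) x).toNat •
          KZero.clSub (cohP X) (Cyc.closureStructureSheaf x) = 0 := by
        refine Finset.sum_eq_zero fun x hx => ?_
        rw [len_eq_zero]
        · simp
        · rw [support_closureStructureSheaf, ← specializes_iff_mem_closure]
          intro hyx
          have h3 : closure ({x} : Set X) ⊆ closure {y} :=
            closure_minimal (Set.singleton_subset_iff.2 (specializes_iff_mem_closure.1 hyx)) isClosed_closure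
          have h4 := Fga.DimLt.topologicalKrullDim_mono h3
          rw [((hs x).1 hx).2] at h4
          exact absurd (lt_of_le_of_lt h4 hlt) (lt_irrefl _)
      simp only [h2, sub_zero]
      refine AddSubgroup.subset_closure ⟨_, CycB.ClosSheaf.isCoh_closureStructureSheaf y, ?_, rfl⟩
      rw [support_closureStructureSheaf]
      exact hlt

theorem cl_sub_sum_mem [IsNoetherian X] (n : ℕ) (F : X.Modules) (hF : Coh.IsCoh F)
    (hsupp : topologicalKrullDim ↥(CohB1.support F) ≤ n) :
    KZero.clSub (cohP X) F -
        (finsum fun x : ↥X => open Classical in if topologicalKrullDim ↥(closure ({x} : Set ↥X)) = n then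
          (Module.length (X.presheaf.stalk x) (F.presheaf.stalk x)).toNat •
            KZero.clSub (cohP X) (Cyc.closureStructureSheaf x) else 0) ∈ filtLt X n := by
  classical
  have hT := isClosed_support hF
  have hfin := finite_gen hT hsupp
  have key : (finsum fun x : ↥X => open Classical in if topologicalKrullDim ↥(closure ({x} : Set ↥X)) = n then
          (Module.length (X.presheaf.stalk x) (F.presheaf.stalk x)).toNat •
            KZero.clSub (cohP X) (Cyc.closureStructureSheaf x) else 0) =
      ∑ x ∈ hfin.toFinset, (len F x).toNat • KZero.clSub (cohP X) (Cyc.closureStructureSheaf x) := by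
    rw [finsum_eq_sum_of_support_subset (s := hfin.toFinset)]
    · refine Finset.sum_congr rfl fun x hx => ?_
      rw [if_pos ((hfin.mem_toFinset).1 hx).2]
    · intro x hx
      rw [Function.mem_support] at hx
      rw [Finset.mem_coe, hfin.mem_toFinset]
      have h1 : topologicalKrullDim ↥(closure ({x} : Set ↥X)) = n := by
        by_contra h
        exact hx (if_neg h)
      refine ⟨?_, h1⟩
      by_contra h
      rw [if_pos h1] at hx
      apply hx
      have h2 : len F x = 0 := len_eq_zero h
      change (len F x).toNat • _ = 0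
      rw [h2]
      simp
  rw [key]
  exact cl_sub_sum_mem_aux n hT hsupp _ (fun x => hfin.mem_toFinset) F hF subset_rfl

end K266.DimFilt
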