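import Groth.Agent.SGA6.K266.KRing
import Groth.Agent.Krr.H488.RegB
import Groth.Agent.Krr.H488.Alg
import Groth.Agent.Krr.H495.Rank
import Groth.Agent.Ega2.QCohLocal

/-!
# `K₀` of vector bundles on a projective bundle with an atlas

The projective bundle theorem for the rings `KR` over an arbitrary base with a finite atlas
(no connectedness, no Noetherian hypothesis).
-/

set_option autoImplicit false

universe u v w

open CategoryTheory CategoryTheory.Limits AlgebraicGeometry Finset Filter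

namespace K266.PBRing

open Groth.Agent Groth.Agent.Krr.H488.PicZ Groth.Agent.Krr.H488.Chart Groth.Agent.Krr.H488.Atlas
  Groth.Agent.Krr.H488.RegB Groth.Agent.Krr.H488
open Groth.Agent.Sga67.KvbRing Groth.Agent.Krr.H495
open Scheme.Modules KRR K266.KRing

variable {r : ℕ} {X P : Scheme.{u}} {π : P ⟶ X} {O1 : P.Modules}

section Rk

/-- The rank at a point, as an additive map. -/
noncomputable def rkA (x : X) : KR X →+ ℤ :=
  liftR (fun E => ((Rank.rk E x : ℕ) : ℤ)) (fun S h₁ h₂ h₃ hS =>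
    (congrArg (Nat.cast : ℕ → ℤ) (Rank.rk_shortExact hS h₁ h₃ x)).trans (Nat.cast_add _ _))

theorem rkA_κ (x : X) {E : X.Modules} (hE : FlatMod.IsFinLocFree E) : rkA x (κ E) = Rank.rk E x :=
  liftR_κ _ _ hE

theorem rkA_mul (x : X) (a b : KR X) : rkA x (a * b) = rkA x a * rkA x b := by
  refine induction (C := fun a => rkA x (a * b) = rkA x a * rkA x b) (fun E hE => ?_)
    (fun a b ha hb => ?_) a
  · refine induction (C := fun b => rkA x (κ E * b) = rkA x (κ E) * rkA x b)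
      (fun F hF => ?_) (fun a b ha hb => ?_) b
    · rw [← κ_tensor hE hF, rkA_κ x hE, rkA_κ x hF, rkA_κ x (Sga67.LocBasis.isFinLocFree_tensorMod hE hF)]
      have := Rank.rk_tensor hE hF x
      exact_mod_cast this
    · rw [mul_sub, map_sub, ha, hb, map_sub, mul_sub]
  · rw [sub_mul, map_sub, ha, hb, map_sub, sub_mul]

/-- The rank at a point. -/
noncomputable def rkR (x : X) : KR X →+* ℤ :=
  { rkA x with
    map_one' := by
      change rkA x 1 = 1
      rw [← κ_one, rkA_κ x Sga67.TensorOps.isFinLocFree_structureModule, Rank.rk_structureModule]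
      rfl
    map_mul' := rkA_mul x }

theorem rkR_κ (x : X) {E : X.Modules} (hE : FlatMod.IsFinLocFree E) : rkR x (κ E) = Rank.rk E x :=
  rkA_κ x hE

end Rk

section Basic

theorem isFinLocFree_pw (hO : PicF.IsInvertible O1) (d : ℤ) : FlatMod.IsFinLocFree (pw hO d) :=
  Dcoh.FinLocFree.isFinLocFree_of_iso (Ega2.Tens.runit _)
    (Sga67.TwistOver.isFinLocFree_tensorMod_of_isInvertible (isInvertible_pw hO d)
      Sga67.TensorOps.isFinLocFree_structureModule)

theorem cl_tw (hO : PicF.IsInvertible O1) (d : ℤ) {F : P.Modules} (hF : FlatMod.IsFinLocFree F) :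
    κ ((tw hO d).obj F) = κ (pw hO d) * κ F :=
  κ_tensor (isFinLocFree_pw hO d) hF

theorem cl_pw_zero (hO : PicF.IsInvertible O1) : κ (pw hO 0) = 1 := by
  obtain ⟨e⟩ := nonempty_pw_zero hO
  rw [κ_iso e (isFinLocFree_pw hO 0), κ_one]

theorem cl_pw_add (hO : PicF.IsInvertible O1) (a b : ℤ) :
    κ (pw hO (a + b)) = κ (pw hO a) * κ (pw hO b) := by
  obtain ⟨e⟩ := nonempty_pw_mul hO a b
  rw [← κ_tensor (isFinLocFree_pw hO a) (isFinLocFree_pw hO b)]
  exact (κ_iso e (Sga67.LocBasis.isFinLocFree_tensorMod (isFinLocFree_pw hO a) (isFinLocFree_pw hO b))).symm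

/-- The class of `O1^{⊗ d}` as a unit. -/
noncomputable def unitPw (hO : PicF.IsInvertible O1) (d : ℤ) : (KR P)ˣ where
  val := κ (pw hO d)
  inv := κ (pw hO (-d))
  val_inv := by rw [← cl_pw_add, add_neg_cancel, cl_pw_zero]
  inv_val := by rw [← cl_pw_add, neg_add_cancel, cl_pw_zero]

/-- `ℓ = [O1]` as a unit. -/
noncomputable def ell (hO : PicF.IsInvertible O1) : (KR P)ˣ := unitPw hO 1

theorem ell_val (hO : PicF.IsInvertible O1) : (ell hO : KR P) = κ O1 := by
  obtain ⟨e⟩ := nonempty_pw_one hO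
  change κ (pw hO 1) = _
  rw [κ_iso e (isFinLocFree_pw hO 1)]

theorem unitPw_eq (hO : PicF.IsInvertible O1) (d : ℤ) : unitPw hO d = ell hO ^ d := by
  let f : Multiplicative ℤ →* (KR P)ˣ :=
    { toFun := fun d => unitPw hO d.toAdd
      map_one' := Units.ext (cl_pw_zero hO)
      map_mul' := fun a b => Units.ext (cl_pw_add hO _ _) }
  have := map_zpow f (Multiplicative.ofAdd 1) d
  rw [← ofAdd_zsmul, smul_eq_mul, mul_one] at this
  exact this

theorem cl_pw (hO : PicF.IsInvertible O1) (d : ℤ) : κ (pw hO d) = ((ell hO ^ d : (KR P)ˣ) : KR P) := by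
  rw [← unitPw_eq]
  rfl

theorem cl_tw' (hO : PicF.IsInvertible O1) (d : ℤ) {F : P.Modules} (hF : FlatMod.IsFinLocFree F) :
    κ ((tw hO d).obj F) = ((ell hO ^ d : (KR P)ˣ) : KR P) * κ F := by
  rw [cl_tw hO d hF, cl_pw]

end Basic

section Main

variable {ι : Type} {A : ι → Type u} [∀ i, CommRing (A i)] {h : ∀ i, Spec (CommRingCat.of (A i)) ⟶ X}
  [∀ i, IsOpenImmersion (h i)] {𝔸 : Atlas r π O1 A h} {hO : PicF.IsInvertible O1}

/-- The classes of the canonical resolution. -/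
noncomputable def eC (π : P ⟶ X) (hO : PicF.IsInvertible O1) (F : P.Modules) (i : ℕ) : KR X :=
  κ ((pushforward π).obj (L π hO F i))

/-- The classes of `π_* O1^{⊗ n}`. -/
noncomputable def sC (π : P ⟶ X) (hO : PicF.IsInvertible O1) (n : ℕ) : KR X :=
  κ ((pushforward π).obj (pw hO (n : ℤ)))

/-- The classes of `π_* L_i(n)`. -/
noncomputable def uC (π : P ⟶ X) (hO : PicF.IsInvertible O1) (F : P.Modules) (i n : ℕ) : KR X :=
  κ ((pushforward π).obj ((tw hO (n : ℤ)).obj (L π hO F i)))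

/-- The class of `π_*(O1^{⊗ n} ⊗ π^* E)`. -/
theorem cl_push_tw_pull (𝔸 : Atlas r π O1 A h) (hO : PicF.IsInvertible O1) (n : ℕ) {E : X.Modules}
    (hE : FlatMod.IsFinLocFree E) :
    κ ((pushforward π).obj ((tw hO (n : ℤ)).obj ((Scheme.Modules.pullback π).obj E))) =
      κ E * sC π hO n := by
  obtain ⟨e⟩ := nonempty_push_tw_pull (π := π) hO (n : ℤ) hE
  have h1 := κ_iso e (Sga67.LocBasis.isFinLocFree_tensorMod hE (isFinLocFree_push_pw 𝔸 hO n))
  have h2 := κ_tensor hE (isFinLocFree_push_pw 𝔸 hO n)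
  exact h1.symm.trans h2

theorem nonempty_unit_iso (𝔸 : Atlas r π O1 A h) (hO : PicF.IsInvertible O1) :
    Nonempty (Coh.structureModule X ≅ (pushforward π).obj
      ((tw hO ((0 : ℕ) : ℤ)).obj ((Scheme.Modules.pullback π).obj (Coh.structureModule X)))) := by
  have h1 := isIso_unit 𝔸 (Sga67.TensorOps.isFinLocFree_structureModule (X := X))
  obtain ⟨e⟩ := nonempty_tw_zero hO ((Scheme.Modules.pullback π).obj (Coh.structureModule X))
  rw [Nat.cast_zero]
  let a : Coh.structureModule X ≅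
      (pushforward π).obj ((Scheme.Modules.pullback π).obj (Coh.structureModule X)) :=
    @asIso _ _ _ _ ((pullbackPushforwardAdjunction π).unit.app (Coh.structureModule X)) h1
  exact ⟨a ≪≫ (pushforward π).mapIso e.symm⟩

theorem sC_zero (𝔸 : Atlas r π O1 A h) (hO : PicF.IsInvertible O1) : sC π hO 0 = 1 := by
  have hS := Sga67.TensorOps.isFinLocFree_structureModule (X := X)
  obtain ⟨e⟩ := nonempty_unit_iso 𝔸 hO
  have h2 := cl_push_tw_pull 𝔸 hO 0 hS
  rw [κ_one, one_mul] at h2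
  rw [← h2]
  exact (κ_iso e hS).symm.trans κ_one

section Resol

variable {F : P.Modules} (hF : RegB 𝔸 hO F)

include hF

/-- One step of the canonical resolution in `K(P)`. -/
theorem cl_L_succ (i : ℕ) : κ (L π hO F (i + 1)) =
    (ell hO : KR P) * (pull π (eC π hO F i) - κ (L π hO F i)) := by
  have hR := reg_L hF i
  have hepi := epi_cou hR
  have h1 := κ_ses (shortExact_seq (π := π) (L π hO F i)) (vb_ker hR)
    (PerfB.FlatPull.isFinLocFree_pullback π hR.vb_push) hR.vb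
  have h2 : κ (kernel (cou π (L π hO F i))) = pull π (eC π hO F i) - κ (L π hO F i) := by
    rw [eC, pull_κ π hR.vb_push, eq_sub_iff_add_eq]
    exact h1.symm
  have h3 := cl_tw' hO 1 (vb_ker hR)
  rw [h2, zpow_one] at h3
  exact h3

/-- The canonical resolution of a regular bundle in `K(P)`. -/
theorem cl_resol_aux (m : ℕ) : κ F * (ell hO : KR P) ^ m =
    ∑ i ∈ range m, (-1) ^ i * pull π (eC π hO F i) * (ell hO : KR P) ^ (m - i) +
      (-1) ^ m * κ (L π hO F m) := by
  induction m with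
  | zero => simp [L]
  | succ m ih =>
    rw [pow_succ, ← mul_assoc, ih, add_mul, sum_mul, sum_range_succ, cl_L_succ hF m]
    have h1 : ∑ i ∈ range m, (-1) ^ i * pull π (eC π hO F i) * (ell hO : KR P) ^ (m - i) * (ell hO : KR P) =
        ∑ i ∈ range m, (-1) ^ i * pull π (eC π hO F i) * (ell hO : KR P) ^ (m + 1 - i) := by
      refine sum_congr rfl fun i hi => ?_
      have hi' := mem_range.1 hi
      have e : m + 1 - i = (m - i) + 1 := by omega
      rw [e, pow_succ, mul_assoc]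
    rw [h1]
    have e : m + 1 - m = 1 := by omega
    rw [e]
    ring

theorem cl_resol : κ F * (ell hO : KR P) ^ (r + 1) =
    ∑ i ∈ range (r + 1), (-1) ^ i * pull π (eC π hO F i) * (ell hO : KR P) ^ (r + 1 - i) := by
  rw [cl_resol_aux hF (r + 1), κ_isZero (isZero_L hF), mul_zero, add_zero]

theorem uC_aux (i n : ℕ) : uC π hO F i n = eC π hO F i * sC π hO n -
    κ ((pushforward π).obj ((tw hO (n : ℤ)).obj (kernel (cou π (L π hO F i))))) := by
  have hR := reg_L hF i
  have hlim := preservesFiniteLimits_tw hO (n : ℤ)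
  have hadd : (tw hO (n : ℤ)).Additive := Functor.additive_of_preserves_binary_products _
  have h1 := κ_ses (shortExact_push_tw hR n) (vb_push_ker hR n)
    (isFinLocFree_push_tw_pull 𝔸 hO n hR.vb_push) (hR.push n)
  have h2 := cl_push_tw_pull 𝔸 hO n hR.vb_push
  rw [uC, eC, ← h2, eq_sub_iff_add_eq']
  exact h1.symm

theorem uC_zero (i : ℕ) : uC π hO F i 0 = eC π hO F i := by
  have hR := reg_L hF i
  obtain ⟨e⟩ := nonempty_tw_zero hO (L π hO F i)
  rw [uC, eC]
  exact κ_iso ((pushforward π).mapIso e) (hR.push 0)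

theorem uC_succ (i n : ℕ) : uC π hO F i (n + 1) =
    eC π hO F i * sC π hO (n + 1) - uC π hO F (i + 1) n := by
  obtain ⟨e⟩ := nonempty_tw_tw hO (n : ℤ) 1 (kernel (cou π (L π hO F i)))
  have h2 : uC π hO F (i + 1) n =
      κ ((pushforward π).obj ((tw hO ((n + 1 : ℕ) : ℤ)).obj (kernel (cou π (L π hO F i))))) :=
    κ_iso ((pushforward π).mapIso e) ((reg_L hF (i + 1)).push n)
  rw [uC_aux hF i (n + 1), h2]

theorem uC_eq (m n : ℕ) : uC π hO F 0 n =
    ∑ i ∈ range m, (if i ≤ n then (-1) ^ i * eC π hO F i * sC π hO (n - i) else 0) +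
      (if m ≤ n then (-1) ^ m * uC π hO F m (n - m) else 0) := by
  induction m with
  | zero => simp
  | succ m ih =>
    rw [ih, sum_range_succ]
    rcases lt_trichotomy m n with hmn | rfl | hmn
    · rw [if_pos hmn.le, if_pos hmn.le, if_pos (by omega : m + 1 ≤ n)]
      obtain ⟨k, rfl⟩ : ∃ k, n = m + k + 1 := ⟨n - m - 1, by omega⟩
      have e1 : m + k + 1 - m = k + 1 := by omega
      have e2 : m + k + 1 - (m + 1) = k := by omega
      rw [e1, e2, uC_succ hF m k]
      ring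
    · rw [if_pos le_rfl, if_pos le_rfl, if_neg (by omega), Nat.sub_self, uC_zero hF m]
      rw [sC_zero 𝔸 hO]
      ring
    · rw [if_neg (by omega), if_neg (by omega), if_neg (by omega)]
      simp

theorem uC_resol (n : ℕ) : uC π hO F 0 n =
    ∑ i ∈ range (r + 1), (if i ≤ n then (-1) ^ i * eC π hO F i * sC π hO (n - i) else 0) := by
  rw [uC_eq hF (r + 1) n]
  have hz : uC π hO F (r + 1) (n - (r + 1)) = 0 := by
    have hlim := preservesFiniteLimits_tw hO ((n - (r + 1) : ℕ) : ℤ)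
    have hadd : (tw hO ((n - (r + 1) : ℕ) : ℤ)).Additive := Functor.additive_of_preserves_binary_products _
    have h1 : IsZero ((pushforward π).obj ((tw hO ((n - (r + 1) : ℕ) : ℤ)).obj (L π hO F (r + 1)))) :=
      (pushforward π).map_isZero ((tw hO _).map_isZero (isZero_L hF))
    exact κ_isZero h1
  rw [hz, mul_zero, ite_self, add_zero]

end Resol

/-- The bundle `O1` in the form `O1 ⊗ π^* O`. -/
noncomputable def F0 (π : P ⟶ X) (hO : PicF.IsInvertible O1) : P.Modules :=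
  (tw hO 1).obj ((Scheme.Modules.pullback π).obj (Coh.structureModule X))

theorem reg_F0 (𝔸 : Atlas r π O1 A h) (hO : PicF.IsInvertible O1) : RegB 𝔸 hO (F0 π hO) :=
  (fs_reg 𝔸 hO _ Sga67.TensorOps.isFinLocFree_structureModule).tw 1

theorem cl_F0 (hO : PicF.IsInvertible O1) : κ (F0 π hO) = (ell hO : KR P) := by
  have h1 := cl_tw' hO 1 (PerfB.FlatPull.isFinLocFree_pullback π
    (Sga67.TensorOps.isFinLocFree_structureModule (X := X)))
  rw [zpow_one, ← pull_κ π Sga67.TensorOps.isFinLocFree_structureModule, κ_one, map_one, mul_one] at h1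
  exact h1

theorem uC_F0 (𝔸 : Atlas r π O1 A h) (hO : PicF.IsInvertible O1) (n : ℕ) :
    uC π hO (F0 π hO) 0 n = sC π hO (n + 1) := by
  have h2 := cl_push_tw_pull 𝔸 hO (n + 1) (Sga67.TensorOps.isFinLocFree_structureModule (X := X))
  rw [κ_one, one_mul] at h2
  obtain ⟨e⟩ := nonempty_tw_tw hO (n : ℤ) 1 ((Scheme.Modules.pullback π).obj (Coh.structureModule X))
  have h3 := κ_iso ((pushforward π).mapIso e) ((reg_F0 𝔸 hO).push n)
  rw [← h2, uC]
  exact h3

/-- The recursion for `s n = [π_* O1^{⊗ n}]`. -/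
theorem sC_rec (𝔸 : Atlas r π O1 A h) (hO : PicF.IsInvertible O1) (n : ℕ) : sC π hO (n + 1) =
    ∑ i ∈ range (r + 1), (if i ≤ n then (-1) ^ i * eC π hO (F0 π hO) i * sC π hO (n - i) else 0) := by
  rw [← uC_F0 𝔸 hO n]
  exact uC_resol (reg_F0 𝔸 hO) n

/-- The last term of the canonical resolution of `O1` has rank one. -/
theorem rank_last (𝔸 : Atlas r π O1 A h) (hO : PicF.IsInvertible O1) :
    FlatMod.IsFinLocFreeOfRank 1 ((pushforward π).obj (L π hO (F0 π hO) r)) := by
  have hvb := (reg_L (reg_F0 𝔸 hO) r).vb_push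
  refine Rank.isFinLocFreeOfRank_iff.2 ⟨hvb, fun x => ?_⟩
  have haug : ∀ n, rkR x (sC π hO n) = ((n + r).choose r : ℕ) := fun n => by
    rw [sC, rkR_κ x (isFinLocFree_push_pw 𝔸 hO n), Rank.rk_of_rank (rank_push_pw 𝔸 hO n)]
  have h1 : rkR x (eC π hO (F0 π hO) r) = 1 := by
    refine Alg.rank_eq_one r (fun i => rkR x (eC π hO (F0 π hO) i)) fun n => ?_
    have h2 := congrArg (rkR x) (sC_rec 𝔸 hO n)
    rw [haug, map_sum] at h2
    rw [h2]
    refine sum_congr rfl fun i _ => ?_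
    split_ifs
    · rw [map_mul, map_mul, map_pow, map_neg, map_one, haug]
    · rw [map_zero]
  rw [eC, rkR_κ x hvb] at h1
  exact_mod_cast h1

/-- The last class of the canonical resolution of `O1` is a unit. -/
theorem isUnit_eC (𝔸 : Atlas r π O1 A h) (hO : PicF.IsInvertible O1) :
    IsUnit (eC π hO (F0 π hO) r) := by
  have hI : PicF.IsInvertible ((pushforward π).obj (L π hO (F0 π hO) r)) :=
    Ega2.QCohLocal.isFinLocFreeOfRank_one_iff.1 (rank_last 𝔸 hO)
  exact ⟨ell hI, ell_val hI⟩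

section Rel

/-- The relation of degree `r + 1` satisfied by `ℓ`. -/
theorem rel (𝔸 : Atlas r π O1 A h) (hO : PicF.IsInvertible O1) :
    (ell hO : KR P) ^ (r + 1) = ∑ i ∈ range (r + 1),
    (-1) ^ i * pull π (eC π hO (F0 π hO) i) * (ell hO : KR P) ^ (r - i) := by
  have h1 := cl_resol (reg_F0 𝔸 hO)
  rw [cl_F0 hO] at h1
  have h2 : (ell hO : KR P) * ∑ i ∈ range (r + 1),
      (-1) ^ i * pull π (eC π hO (F0 π hO) i) * (ell hO : KR P) ^ (r - i) =
      ∑ i ∈ range (r + 1), (-1) ^ i * pull π (eC π hO (F0 π hO) i) * (ell hO : KR P) ^ (r + 1 - i) := by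
    rw [mul_sum]
    refine sum_congr rfl fun i hi => ?_
    have hi' := mem_range.1 hi
    have e : r + 1 - i = (r - i) + 1 := by omega
    rw [e, pow_succ]
    ring
  exact (Units.mul_right_inj (ell hO)).1 (h1.trans h2.symm)

/-- An elementary cancellation. -/
theorem cancel_aux {K : Type w} [CommRing K] (u : Kˣ) (n m : ℕ) (y : K) :
    y = ((u ^ (-(n : ℤ) - (m : ℤ)) : Kˣ) : K) * (((u ^ (n : ℤ) : Kˣ) : K) * y * (u : K) ^ m) := by
  have h1 : (((u ^ (-(n : ℤ) - (m : ℤ)) : Kˣ) : K) * ((u ^ (n : ℤ) : Kˣ) : K)) * (u : K) ^ m = 1 := by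
    rw [← Units.val_mul, ← Units.val_pow_eq_pow_val, ← Units.val_mul, ← zpow_natCast u m, ← zpow_add, ← zpow_add,
      ← Units.val_one]
    congr 1
    have : -(n : ℤ) - m + n + m = 0 := by ring
    rw [this, zpow_zero]
  calc y = 1 * y := (one_mul y).symm
    _ = _ := by rw [← h1]; ring

/-- `K(P)` is generated by the elements `ℓ^d π^K(x)`. -/
theorem gen (𝔸 : Atlas r π O1 A h) (hO : PicF.IsInvertible O1) [Finite ι]
    (hserre : ∀ i, Sga67.HypFields559.SerreProp r (A i)) (M : AddSubgroup (KR P))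
    (hM : ∀ (d : ℤ) (x : KR X), ((ell hO ^ d : (KR P)ˣ) : KR P) * pull π x ∈ M) : M = ⊤ := by
  rw [eq_top_iff]
  rintro x -
  refine induction (C := fun x => x ∈ M) (fun E hE' => ?_) (fun a b ha hb => M.sub_mem ha hb) x
  obtain ⟨n, hn⟩ := reg_mem 𝔸 hO hserre E hE'
  have hR := hn n le_rfl
  have h1 := cl_resol hR
  rw [cl_tw' hO n hE'] at h1
  rw [cancel_aux (ell hO) n (r + 1) (κ E), h1, mul_sum]
  refine M.sum_mem fun i _ => ?_
  have h2 : ((ell hO ^ (-(n : ℤ) - ((r + 1 : ℕ) : ℤ)) : (KR P)ˣ) : KR P) *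
      ((-1) ^ i * pull π (eC π hO ((tw hO (n : ℤ)).obj E) i) * (ell hO : KR P) ^ (r + 1 - i)) =
      (-1) ^ i * (((ell hO ^ (-(n : ℤ) - ((r + 1 : ℕ) : ℤ) + ((r + 1 - i : ℕ) : ℤ)) : (KR P)ˣ) : KR P) *
        pull π (eC π hO ((tw hO (n : ℤ)).obj E) i)) := by
    rw [zpow_add, Units.val_mul, zpow_natCast, Units.val_pow_eq_pow_val]
    ring
  rw [h2]
  rcases neg_one_pow_eq_or (KR P) i with h3 | h3
  · rw [h3, one_mul]
    exact hM _ _
  · rw [h3, neg_one_mul]
    exact M.neg_mem (hM _ _)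

end Rel

section Germ

/-- The Hilbert function `n ↦ [π_* F(n)]`. -/
noncomputable def hilb (π : P ⟶ X) (hO : PicF.IsInvertible O1) (F : P.Modules) (n : ℕ) : KR X :=
  κ ((pushforward π).obj ((tw hO (n : ℤ)).obj F))

/-- The Hilbert function is eventually additive. -/
theorem hilb_add (𝔸 : Atlas r π O1 A h) (hO : PicF.IsInvertible O1) [Finite ι]
    (hserre : ∀ i, Sga67.HypFields559.SerreProp r (A i)) (S : ShortComplex P.Modules)
    (h₁ : FlatMod.IsFinLocFree S.X₁) (h₂ : FlatMod.IsFinLocFree S.X₂) (h₃ : FlatMod.IsFinLocFree S.X₃)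
    (hS : S.ShortExact) :
    ∃ N : ℕ, ∀ n : ℕ, N ≤ n → hilb π hO S.X₂ n = hilb π hO S.X₁ n + hilb π hO S.X₃ n := by
  obtain ⟨n1, h1'⟩ := reg_mem 𝔸 hO hserre S.X₁ h₁
  obtain ⟨n2, h2'⟩ := reg_mem 𝔸 hO hserre S.X₂ h₂
  obtain ⟨n3, h3'⟩ := reg_mem 𝔸 hO hserre S.X₃ h₃
  refine ⟨n1 + n2 + n3, fun n hn => ?_⟩
  have hlim := preservesFiniteLimits_tw hO (n : ℤ)
  have hcolim := preservesFiniteColimits_tw hO (n : ℤ)
  have hadd : (tw hO (n : ℤ)).Additive := Functor.additive_of_preserves_binary_products _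
  have hC : (S.map (tw hO (n : ℤ))).ShortExact := hS.map_of_exact _
  have hR1 := h1' n (by omega)
  have hR2 := h2' n (by omega)
  have hR3 := h3' n (by omega)
  have h4 := shortExact_push (𝔸 := 𝔸) (hO := hO) hC hR1 hR3.vb
  have h5 := κ_ses h4 hR1.vb_push hR2.vb_push hR3.vb_push
  unfold hilb
  exact h5

/-- The germ at infinity of the Hilbert function, on `K(P)`. -/
noncomputable def germR (𝔸 : Atlas r π O1 A h) (hO : PicF.IsInvertible O1) [Finite ι]
    (hserre : ∀ i, Sga67.HypFields559.SerreProp r (A i)) :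
    KR P →+ Germ (atTop : Filter ℕ) (KR X) :=
  liftR (fun F => ((hilb π hO F : ℕ → KR X) : Germ (atTop : Filter ℕ) (KR X)))
    (fun S h₁ h₂ h₃ hS => by
      obtain ⟨N, hN⟩ := hilb_add 𝔸 hO hserre S h₁ h₂ h₃ hS
      rw [← Germ.coe_add, Germ.coe_eq]
      exact eventually_atTop.2 ⟨N, fun n hn => hN n hn⟩)

theorem germR_κ (𝔸 : Atlas r π O1 A h) (hO : PicF.IsInvertible O1) [Finite ι]
    (hserre : ∀ i, Sga67.HypFields559.SerreProp r (A i)) {F : P.Modules}
    (hF : FlatMod.IsFinLocFree F) : germR 𝔸 hO hserre (κ F) =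
      ((hilb π hO F : ℕ → KR X) : Germ (atTop : Filter ℕ) (KR X)) :=
  liftR_κ _ _ hF

theorem germR_mul (𝔸 : Atlas r π O1 A h) (hO : PicF.IsInvertible O1) [Finite ι]
    (hserre : ∀ i, Sga67.HypFields559.SerreProp r (A i)) (i : ℕ) (x : KR X) :
    germR 𝔸 hO hserre (pull π x * (ell hO : KR P) ^ i) =
      ((fun n => x * sC π hO (n + i) : ℕ → KR X) : Germ (atTop : Filter ℕ) (KR X)) := by
  refine induction (C := fun x => germR 𝔸 hO hserre (pull π x * (ell hO : KR P) ^ i) =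
      ((fun n => x * sC π hO (n + i) : ℕ → KR X) : Germ (atTop : Filter ℕ) (KR X))) (fun E hE' => ?_)
    (fun a b ha hb => ?_) x
  · have hpE := PerfB.FlatPull.isFinLocFree_pullback π hE'
    have h1 : pull π (κ E) * (ell hO : KR P) ^ i =
        κ ((tw hO (i : ℤ)).obj ((Scheme.Modules.pullback π).obj E)) := by
      rw [cl_tw' hO i hpE, pull_κ _ hE', zpow_natCast, Units.val_pow_eq_pow_val, mul_comm]
    rw [h1, germR_κ 𝔸 hO hserre (isFinLocFree_tw hO _ _ hpE)]
    congr 1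
    funext n
    have h2 := cl_push_tw_pull 𝔸 hO (n + i) hE'
    rw [← h2, hilb]
    obtain ⟨e⟩ := nonempty_tw_tw hO (n : ℤ) i ((Scheme.Modules.pullback π).obj E)
    exact (κ_iso ((pushforward π).mapIso e).symm (isFinLocFree_push_tw_pull 𝔸 hO (n + i) hE')).symm
  · rw [map_sub, sub_mul, map_sub, ha, hb, ← Germ.coe_sub]
    congr 1
    funext n
    simp [sub_mul]

end Germ

/-- **Projective bundle theorem**: `K(P)` is free over `K(X)` with basis `1, ℓ, …, ℓ^r`. -/
theorem bijective (𝔸 : Atlas r π O1 A h) (hO : PicF.IsInvertible O1) [Finite ι]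
    (hserre : ∀ i, Sga67.HypFields559.SerreProp r (A i)) :
    Function.Bijective (fun a : Fin (r + 1) → KR X =>
      ∑ i : Fin (r + 1), pull π (a i) * (ell hO : KR P) ^ (i : ℕ)) :=
  Alg.bijective_of (pull π) (ell hO) r (eC π hO (F0 π hO)) (sC π hO)
    (isUnit_eC 𝔸 hO) (rel 𝔸 hO) (gen 𝔸 hO hserre) (sC_zero 𝔸 hO)
    (sC_rec 𝔸 hO) (germR 𝔸 hO hserre) (germR_mul 𝔸 hO hserre)

/-- The same with negative powers. -/
theorem bijective_inv (𝔸 : Atlas r π O1 A h) (hO : PicF.IsInvertible O1) [Finite ι]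
    (hserre : ∀ i, Sga67.HypFields559.SerreProp r (A i)) :
    Function.Bijective (fun a : Fin (r + 1) → KR X =>
      ∑ i : Fin (r + 1), pull π (a i) * ((((ell hO)⁻¹ : (KR P)ˣ) : KR P)) ^ (i : ℕ)) := by
  have h1 := bijective 𝔸 hO hserre
  have h2 : Function.Bijective (fun y : KR P => ((((ell hO)⁻¹ ^ r : (KR P)ˣ) : KR P)) * y) :=
    ((ell hO)⁻¹ ^ r).mulLeft_bijective
  have h3 : Function.Bijective (fun a : Fin (r + 1) → KR X => a ∘ Fin.rev) :=
    (Equiv.arrowCongr (Fin.revPerm) (Equiv.refl _)).bijective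
  have h4 := (h2.comp h1).comp h3
  convert h4 using 1
  funext a
  simp only [Function.comp_apply, mul_sum]
  rw [← Equiv.sum_comp Fin.revPerm]
  refine sum_congr rfl fun i _ => ?_
  rw [Fin.revPerm_apply, mul_left_comm, ← Units.val_pow_eq_pow_val, ← Units.val_pow_eq_pow_val, ← Units.val_mul]
  congr 2
  rw [inv_pow, inv_pow, eq_comm, inv_mul_eq_iff_eq_mul, eq_mul_inv_iff_mul_eq, ← pow_add]
  congr 1
  have := i.isLt
  simp only [Fin.val_rev]
  omega

end Main

end K266.PBRing
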