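import Groth.Agent.SGA6.K266.PnAtlas

/-!
# Asymptotic direct images of vector bundles with the same class
-/

set_option autoImplicit false

universe u

open CategoryTheory CategoryTheory.Limits AlgebraicGeometry Filter

namespace K266.HilbVb

open Groth.Agent Groth.Agent.Krr.H488.PicZ Groth.Agent.Krr.H488.Atlas Groth.Agent.Krr.H488.RegB
open K266.KRing K266.PBRing K266.PnAtlas Groth.Agent.Sga67.LocBasis Groth.Agent.Sga67.KvbRing

theorem main (S : Scheme.{u}) [CompactSpace ↥S] (r : ℕ)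
    (F G : (KRR.PY r S).Modules) (hF : FlatMod.IsFinLocFree F) (hG : FlatMod.IsFinLocFree G)
    (h : KRR.cl (KRR.PY r S) F = KRR.cl (KRR.PY r S) G) :
    ∃ n₀ : ℕ, ∀ n : ℕ, n₀ ≤ n →
      FlatMod.IsFinLocFree ((Scheme.Modules.pushforward (KRR.pr r S)).obj (KRR.twF r S (n : ℤ) F)) ∧
      FlatMod.IsFinLocFree ((Scheme.Modules.pushforward (KRR.pr r S)).obj (KRR.twF r S (n : ℤ) G)) ∧
      KRR.cl S ((Scheme.Modules.pushforward (KRR.pr r S)).obj (KRR.twF r S (n : ℤ) F)) =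
        KRR.cl S ((Scheme.Modules.pushforward (KRR.pr r S)).obj (KRR.twF r S (n : ℤ) G)) := by
  obtain ⟨ι, hι, A, hA, h', hh, ⟨𝔸⟩⟩ := exists_atlas r S
  have hs := fun i => Krr.H488.Serre.serreProp r (A i)
  obtain ⟨n1, h1⟩ := reg_mem 𝔸 (hO r S) hs F hF
  obtain ⟨n2, h2⟩ := reg_mem 𝔸 (hO r S) hs G hG
  have h3 : germR 𝔸 (hO r S) hs (κ F) = germR 𝔸 (hO r S) hs (κ G) := by
    rw [κ, h]
    rfl
  rw [germR_κ 𝔸 (hO r S) hs hF, germR_κ 𝔸 (hO r S) hs hG, Germ.coe_eq] at h3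
  obtain ⟨n3, h3⟩ := eventually_atTop.1 h3
  refine ⟨n1 + n2 + n3, fun n hn => ?_⟩
  obtain ⟨eF⟩ := nonempty_tw_twF r S n F
  obtain ⟨eG⟩ := nonempty_tw_twF r S n G
  have h4 := (h1 n (by omega)).vb_push
  have h5 := (h2 n (by omega)).vb_push
  have e1 := (Scheme.Modules.pushforward (KRR.pr r S)).mapIso eF
  have e2 := (Scheme.Modules.pushforward (KRR.pr r S)).mapIso eG
  refine ⟨isFinLocFree_of_iso e1 h4, isFinLocFree_of_iso e2 h5, ?_⟩
  have h6 := h3 n (by omega)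
  have h7 := κ_iso e1 h4
  have h8 := κ_iso e2 h5
  apply (toKR S).injective
  exact (h7.symm.trans h6).trans h8

end K266.HilbVb
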