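import Groth.Agent.Sga67.FibreSurj
import Groth.Agent.Sga67.HomInvAsm
import Groth.Agent.VarietyB.ProjForm
import Groth.Agent.VarietyB.TensCoh

/-!
# Generation of `K₀(Coh X)` by `[E_i ⊗ f^* N]` when the `E_i` generate `K₀` of every fibre

`f : X ⟶ S` flat (exactness of `f^*` is not used here), `X`, `S` Noetherian, `E i` finite locally free on `X` such
that the classes of the restrictions of the `E i` generate `K₀(Coh X_s)` for every point `s`: a subgroup `R` of
`K₀(Coh X)` containing all `[E i ⊗ f^* N]`, `N` coherent on `S`, is everything (`eq_top`).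
-/

set_option autoImplicit false
universe u
open CategoryTheory CategoryTheory.Limits AlgebraicGeometry TopologicalSpace Opposite

namespace K266.FibreGen

open Groth.Agent Groth.Agent.Sga67 Groth.Agent.Sga67.FlatPre Groth.Agent.Sga67.ClosedPush
open Groth.Agent.Sga67.CohBasic Groth.Agent.Sga67.PreLift Groth.Agent.Sga67.K0Loc
open Groth.Agent.Sga67.FiberPre Groth.Agent.Sga67.FibreSurj
open Groth.Agent.FormalA.PullbackQC (isCoh_pullback)
open Groth.Agent.VarietyB.TensCoh Groth.Agent.VarietyB.ProjForm

variable {X Y T : Scheme.{u}}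

/-- coherent modules. -/
abbrev coh (X : Scheme.{u}) : ObjectProperty X.Modules := fun M : X.Modules => Coh.IsCoh M

/-- The class of a module in `K₀(Coh)`. -/
noncomputable abbrev kc (X : Scheme.{u}) (M : X.Modules) : SGA6.Kcoh X := KZero.clSub (coh X) M

theorem kc_eq {M : X.Modules} (hM : Coh.IsCoh M) : kc X M = mk (coh X) M hM := clSub_eq_mk (coh X) hM

theorem kc_iso {M N : X.Modules} (e : M ≅ N) (hM : Coh.IsCoh M) : kc X M = kc X N := by
  rw [kc_eq hM, kc_eq (isCoh_of_iso e hM)]
  exact mk_iso e _ _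

variable {m : ℕ} (E : Fin m → X.Modules)

/-- The classes of the pullbacks of the `E i` along `j` generate `K₀(Coh Z)`. -/
def Gen {Z : Scheme.{u}} (j : Z ⟶ X) : Prop :=
  AddSubgroup.closure (Set.range fun i : Fin m => kc Z ((Scheme.Modules.pullback j).obj (E i))) = ⊤

theorem Gen.of_iso {E : Fin m → X.Modules} (hE : ∀ i, Coh.IsCoh (E i)) {Z Z' : Scheme.{u}} (e : Z ≅ Z')
    {j : Z ⟶ X} {j' : Z' ⟶ X} (he : e.hom ≫ j' = j) (h : Gen E j') : Gen E j := by
  have h1 := preservesFiniteLimits_pullback e.hom
  let F := SGA6.mapSub (Scheme.Modules.pullback e.hom) (coh Z') (coh Z) (isCoh_pullback e.hom)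
  have hF : Function.Bijective F := HomInvAsm.BijK.of_isIso e.hom (isCoh_pullback e.hom)
  have hval : ∀ i, F (kc Z' ((Scheme.Modules.pullback j').obj (E i))) =
      kc Z ((Scheme.Modules.pullback j).obj (E i)) := by
    intro i
    rw [kc_eq (isCoh_pullback j' _ (hE i)), mapSub_mk, ← kc_eq]
    refine kc_iso ?_ (isCoh_pullback _ _ (isCoh_pullback _ _ (hE i)))
    exact (Scheme.Modules.pullbackComp e.hom j').app (E i) ≪≫
      (Scheme.Modules.pullbackCongr he).app (E i)
  unfold Gen at h ⊢
  rw [eq_top_iff]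
  intro x _
  obtain ⟨y, rfl⟩ := hF.2 x
  have hy : y ∈ AddSubgroup.closure
      (Set.range fun i : Fin m => kc Z' ((Scheme.Modules.pullback j').obj (E i))) := by
    rw [h]; trivial
  have h2 : F y ∈ (AddSubgroup.closure
      (Set.range fun i : Fin m => kc Z' ((Scheme.Modules.pullback j').obj (E i)))).map F := ⟨y, hy, rfl⟩
  rw [AddMonoidHom.map_closure, ← Set.range_comp] at h2
  convert h2 using 3
  funext i
  exact (hval i).symm

theorem fiberIso' {P S : Scheme.{u}} {p : P ⟶ X} {q : P ⟶ T} {f : X ⟶ S} {i : T ⟶ S}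
    [IsPreimmersion i] (h : IsPullback p q f i) (η : T) :
    ∃ e : q.fiber η ≅ f.fiber (i η), e.hom ≫ f.fiberι (i η) = q.fiberι η ≫ p := by
  have h1 := isPullback_fiberToSpecResidueField_of_isPullback h η
  have := isIso_residueFieldMap i η
  have h2 : IsIso (Spec.map (i.residueFieldMap η)) := inferInstance
  have h3 := h1.isIso_fst_of_isIso
  refine ⟨@asIso _ _ _ _ _ h3, ?_⟩
  exact pullback.lift_fst _ _ _

section Main

variable {S : Scheme.{u}} [IsNoetherian X] [IsNoetherian S] (f : X ⟶ S)
  (hE : ∀ i, FlatMod.IsFinLocFree (E i)) (R : AddSubgroup (SGA6.Kcoh X))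
  (hR : ∀ (i : Fin m) (N : S.Modules), Coh.IsCoh N →
    kc X (CohB1.tensorMod (E i) ((Scheme.Modules.pullback f).obj N)) ∈ R)

include hE hR in
/-- The induction step. -/
theorem step {T : Scheme.{u}} [IsReduced T] (i : T ⟶ S) [IsClosedImmersion i] (η : T)
    (hη : ∀ t : T, t ⤳ η → t = η) (hfib : Gen E (f.fiberι (i η)))
    (ih : ∀ Z : Set S, IsClosed Z → Z ⊆ Set.range i → i η ∉ Z → ∀ (M : X.Modules) (hM : Coh.IsCoh M),
      CohB1.support M ⊆ f ⁻¹' Z → mk (coh X) M hM ∈ R)
    (M : X.Modules) (hM : Coh.IsCoh M) (hs : CohB1.support M ⊆ f ⁻¹' (Set.range i)) :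
    mk (coh X) M hM ∈ R := by
  have hEc : ∀ k, Coh.IsCoh (E k) := fun k => by
    have h := isCoh_tensorMod (HasBases.of_isFinLocFree (hE k)) (isCoh_structureModule (X := X))
    exact isCoh_of_iso (Groth.Agent.Ega2.Tens.runit _) h
  -- the base change
  let p : pullback f i ⟶ X := pullback.fst f i
  let q : pullback f i ⟶ T := pullback.snd f i
  have hsq : IsPullback p q f i := IsPullback.of_hasPullback f i
  have hpr : Set.range p = f ⁻¹' (Set.range i) := Scheme.Pullback.range_fst f i
  have hpc := preservesFiniteColimits_pushforward p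
  have hpcoh : ∀ N : (pullback f i).Modules, Coh.IsCoh N →
      Coh.IsCoh ((Scheme.Modules.pushforward p).obj N) := fun N hN => Groth.Agent.S0019.result p N hN
  have hXT : IsNoetherian (pullback f i) := isNoetherian_of_closed p
  have hTN : IsNoetherian T := isNoetherian_of_closed i
  let P := SGA6.mapSub (Scheme.Modules.pushforward p) (coh (pullback f i)) (coh X) hpcoh
  -- the class of `M` is `p_* x`
  obtain ⟨x, hx⟩ : mk (coh X) M hM ∈ P.range := by
    let U : X.Opens := ⟨(Set.range p)ᶜ, p.isClosedEmbedding.isClosed_range.isOpen_compl⟩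
    refine Groth.Agent.Sga67.CohLoc.class_mem_range p hpcoh U.ι (by rw [Scheme.Opens.range_ι]; rfl)
      M hM (isZero_restrict_of_support M U fun x hx hx' => hx ?_)
    rw [hpr]
    exact hs hx'
  rw [← hx]
  -- the generic fibre
  let j : q.fiber η ⟶ pullback f i := q.fiberι η
  have hj : Flat j := flat_fiberι q η hη
  have hjp : IsPreimmersion j := inferInstanceAs (IsPreimmersion (q.fiberι η))
  have hjn : NoetherianSpace (q.fiber η) := j.isEmbedding.isInducing.noetherianSpace
  have hjq : QuasiCompact j := quasiCompact_of_noetherianSpace_source j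
  have hjl := preservesFiniteLimits_pullback j
  have hgen : Gen E (j ≫ p) := by
    obtain ⟨e, he⟩ := fiberIso' hsq η
    exact Gen.of_iso hEc e he hfib
  have hl := locHypPre j
  let J := SGA6.mapSub (Scheme.Modules.pullback j) (coh (pullback f i)) (coh (q.fiber η)) hl.map
  -- the elements `[p^* E k]`
  have hval : ∀ k, J (kc _ ((Scheme.Modules.pullback p).obj (E k))) =
      kc _ ((Scheme.Modules.pullback (j ≫ p)).obj (E k)) := by
    intro k
    rw [kc_eq (isCoh_pullback p _ (hEc k)), mapSub_mk, ← kc_eq]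
    exact kc_iso ((Scheme.Modules.pullbackComp j p).app (E k))
      (isCoh_pullback _ _ (isCoh_pullback _ _ (hEc k)))
  obtain ⟨y, hyc, hyJ⟩ : ∃ y ∈ AddSubgroup.closure
      (Set.range fun k : Fin m => kc _ ((Scheme.Modules.pullback p).obj (E k))), J y = J x := by
    have h1 : J x ∈ AddSubgroup.closure
        (Set.range fun k : Fin m => kc _ ((Scheme.Modules.pullback (j ≫ p)).obj (E k))) := by
      have h2 : AddSubgroup.closure
        (Set.range fun k : Fin m => kc (q.fiber η) ((Scheme.Modules.pullback (j ≫ p)).obj (E k))) = ⊤ := hgen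
      rw [h2]; trivial
    have h3 : (Set.range fun k : Fin m => kc _ ((Scheme.Modules.pullback (j ≫ p)).obj (E k))) =
        J '' (Set.range fun k : Fin m => kc _ ((Scheme.Modules.pullback p).obj (E k))) := by
      rw [← Set.range_comp]
      congr 1
      funext k
      exact (hval k).symm
    rw [h3, ← AddMonoidHom.map_closure] at h1
    obtain ⟨y, hy, hyx⟩ := h1
    exact ⟨y, hy, hyx⟩
  have hle := ker_le hl (R.comap P) (fun N hN h0 => by
    change P (mk _ N hN) ∈ R
    have hPN : P (mk _ N hN) = mk (coh X) ((Scheme.Modules.pushforward p).obj N) (hpcoh N hN) :=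
      mapSub_mk _ _ _ _ _ _
    rw [hPN]
    let Z : Set S := i '' (closure (q '' CohB1.support N))
    have hcl : IsClosed (CohB1.support N) := Groth.Agent.FormalA.Support.isClosed_support N hN.2
    have hηN : η ∉ q '' CohB1.support N := by
      rintro ⟨y, hy, hyη⟩
      have : y ∈ Set.range j := by
        have h3 : Set.range (q.fiberι η) = q ⁻¹' {η} := Scheme.Hom.range_fiberι q η
        change y ∈ Set.range (q.fiberι η)
        rw [h3]
        exact hyη
      obtain ⟨v, rfl⟩ := this
      exact support_disjoint j N h0 v hy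
    have hηZ : η ∉ closure (q '' CohB1.support N) :=
      not_mem_closure_image q q.continuous η hη _ hcl hηN
    refine ih Z (i.isClosedEmbedding.isClosedMap _ isClosed_closure)
      (Set.image_subset_range _ _) ?_ _ _ ?_
    · rintro ⟨t, ht, ht'⟩
      rw [i.isClosedEmbedding.injective ht'] at ht
      exact hηZ ht
    · rw [support_pushforward]
      rintro _ ⟨y, hy, rfl⟩
      have h4 : f (p y) = i (q y) := by
        rw [← Scheme.Hom.comp_apply, ← Scheme.Hom.comp_apply, hsq.w]
      change f (p y) ∈ Z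
      rw [h4]
      exact ⟨q y, subset_closure ⟨y, hy, rfl⟩, rfl⟩)
  have hker : x - y ∈ J.ker := by
    rw [AddMonoidHom.mem_ker, map_sub, hyJ, sub_self]
  have h1 : P (x - y) ∈ R := hle hker
  have h2 : P y ∈ R := by
    have h3 : AddSubgroup.closure
      (Set.range fun k : Fin m => kc _ ((Scheme.Modules.pullback p).obj (E k))) ≤ R.comap P := by
      rw [AddSubgroup.closure_le]
      rintro _ ⟨k, rfl⟩
      change P (kc _ ((Scheme.Modules.pullback p).obj (E k))) ∈ R
      have hiT : Coh.IsCoh ((Scheme.Modules.pushforward i).obj (Coh.structureModule T)) :=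
        Groth.Agent.S0019.result i _ isCoh_structureModule
      have hQ : Coh.IsQCoh (Coh.structureModule T) := (isCoh_structureModule (X := T)).1
      obtain ⟨e⟩ := Groth.Agent.S0017.result i f q p hsq.flip (Coh.structureModule T)
      have e' : (Scheme.Modules.pullback f).obj ((Scheme.Modules.pushforward i).obj
          (Coh.structureModule T)) ≅ (Scheme.Modules.pushforward p).obj
            (Coh.structureModule (pullback f i)) :=
        e ≪≫ (Scheme.Modules.pushforward p).mapIso
          (Groth.Agent.FormalA.PullbackQC.pullbackUnitIso q)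
      have e'' : CohB1.tensorMod (E k) ((Scheme.Modules.pullback f).obj
          ((Scheme.Modules.pushforward i).obj (Coh.structureModule T))) ≅
          (Scheme.Modules.pushforward p).obj ((Scheme.Modules.pullback p).obj (E k)) :=
        (DCoh.tensorBi.obj (E k)).mapIso e' ≪≫ projIsoUnit p (HasBases.of_isFinLocFree (hE k))
      have h5 := hR k _ hiT
      rw [kc_iso e'' (isCoh_of_iso e''.symm (hpcoh _ (isCoh_pullback p _ (hEc k)))),
        kc_eq (hpcoh _ (isCoh_pullback p _ (hEc k)))] at h5
      rw [kc_eq (isCoh_pullback p _ (hEc k))]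
      have h6 : P (mk _ ((Scheme.Modules.pullback p).obj (E k)) (isCoh_pullback p _ (hEc k))) = _ :=
        mapSub_mk _ _ _ _ _ _
      rw [h6]
      exact h5
    exact h3 hyc
  have h3 := R.add_mem h1 h2
  rw [← map_add, sub_add_cancel] at h3
  exact h3

include hE hR in
/-- All classes of coherent modules lie in `R`. -/
theorem mk_mem (hfib : ∀ s : S, Gen E (f.fiberι s)) (Z : Closeds S) :
    ∀ (M : X.Modules) (hM : Coh.IsCoh M), CohB1.support M ⊆ f ⁻¹' (Z : Set S) →
      mk (coh X) M hM ∈ R := by
  refine (wellFounded_lt (α := Closeds S)).induction (C := fun Z => ∀ (M : X.Modules)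
    (hM : Coh.IsCoh M), CohB1.support M ⊆ f ⁻¹' (Z : Set S) → mk (coh X) M hM ∈ R) Z ?_
  clear Z
  intro Z ih M hM hs
  have hred := Groth.Agent.Ega1.ReducedSub.isReduced_subscheme_vanishingIdeal Z
  let T := (Scheme.IdealSheafData.vanishingIdeal Z).subscheme
  let i : T ⟶ S := (Scheme.IdealSheafData.vanishingIdeal Z).subschemeι
  have hr : Set.range i = (Z : Set S) := by
    rw [Scheme.IdealSheafData.range_subschemeι, Scheme.IdealSheafData.coe_support_vanishingIdeal]
  by_cases hT : Nonempty T
  · obtain ⟨x⟩ := hT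
    obtain ⟨η, hη⟩ := exists_maximal_point x
    refine step E f hE R hR i η hη (hfib _) ?_ M hM (by rwa [hr])
    intro W hW hWi hηW M' hM' hs'
    refine ih ⟨W, hW⟩ ?_ M' hM' hs'
    refine lt_of_le_of_ne (fun w hw => ?_) fun h => ?_
    · have : w ∈ Set.range i := hWi hw
      rwa [hr] at this
    · apply hηW
      have h1 : i η ∈ (Z : Set S) := by rw [← hr]; exact ⟨η, rfl⟩
      rw [← h] at h1
      exact h1
  · have hZ : (Z : Set S) = ∅ := by
      rw [← hr]
      exact Set.range_eq_empty_iff.2 (not_nonempty_iff.1 hT)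
    rw [hZ, Set.preimage_empty, Set.subset_empty_iff] at hs
    rw [mk_of_isZero (Groth.Agent.CohqB.DevSupport.isZero_of_support_eq_empty hs)]
    exact zero_mem _

include hE hR in
theorem eq_top (hfib : ∀ s : S, Gen E (f.fiberι s)) : R = ⊤ :=
  eq_top_of_mk_mem _ fun M hM => mk_mem E f hE R hR hfib ⊤ M hM fun _ _ => trivial

end Main

end K266.FibreGen
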