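import Groth.Agent.SGA6.K266.ExcKos
import Groth.Agent.Krr.H467.LFClass
import Groth.Agent.Krr.H473.LpullFlatMod

/-!
# Excess intersection along the blow-up of a Koszul-regular closed immersion in `K₀` of perfect complexes

* `sum_clP`: the Euler characteristic in `Kperf Z` of a bounded complex of modules with perfect terms and homology;
* `pushC`: `[E] ↦ [j_* E]`, `Kvb Z₁ →+ Kperf Z`;
* `main`: `f^* i_* [M] = Σ_{p<c} (-1)^p j_* [g^* M ⊗ Λ^p F]`.
-/

set_option autoImplicit false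
universe v u
open CategoryTheory CategoryTheory.Limits AlgebraicGeometry
open Groth.Agent
attribute [local instance] HasDerivedCategory.standard

namespace K266.ExcPerf

open Groth.Agent.Krr.H468.EulerCx Groth.Agent.Sga67.KTrBasic Groth.Agent.PerfA.PerfLocal

variable {Z : Scheme.{u}}

/-- The class of `M[0]`. -/
noncomputable def clP (M : Z.Modules) : SGA6.Kperf Z := KZero.clTr (SGA6.perfP Z) (DCoh.inD Z M)

/-- `M[0]` is perfect. -/
def PM (M : Z.Modules) : Prop := DCoh.IsPerfect (DCoh.inD Z M)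

theorem pm_flf {M : Z.Modules} (h : FlatMod.IsFinLocFree M) : PM M := isPerfect_inD_of_isFinLocFree h

theorem pm_iso {M N : Z.Modules} (e : M ≅ N) (h : PM M) : PM N :=
  isPerfect_of_iso ((DerivedCategory.singleFunctor Z.Modules 0).mapIso e) h

theorem clP_iso {M N : Z.Modules} (e : M ≅ N) : clP M = clP N :=
  Krr.H467.DerPush.clTr_iso ((DerivedCategory.singleFunctor Z.Modules 0).mapIso e)

theorem clP_isZero {M : Z.Modules} (h : IsZero M) : clP M = 0 :=
  clTr_isZero _ ((DerivedCategory.singleFunctor Z.Modules 0).map_isZero h)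

theorem pm_left {S : ShortComplex Z.Modules} (hS : S.ShortExact) (h₂ : PM S.X₂) (h₃ : PM S.X₃) : PM S.X₁ :=
  (Groth.Agent.S0887.result hS.singleTriangle hS.singleTriangle_distinguished).2.2 h₂ h₃

theorem clP_ses {S : ShortComplex Z.Modules} (hS : S.ShortExact) (h₁ : PM S.X₁) (h₂ : PM S.X₂) (h₃ : PM S.X₃) :
    clP S.X₂ = clP S.X₁ + clP S.X₃ :=
  clTr_add (P := SGA6.perfP Z) hS.singleTriangle hS.singleTriangle_distinguished h₁ h₂ h₃

section Euler

variable (P : ChainComplex Z.Modules ℕ) (hP : ∀ k, PM (P.X k)) (hH : ∀ k, PM (P.homology k))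

include hP hH in
theorem pm_cycles_bd (k : ℕ) : PM (P.cycles k) ∧ PM (bd P k) := by
  have key : ∀ k, PM (P.cycles k) → PM (bd P k) := fun k h => pm_left (ses_hom P k) h (hH k)
  induction k with
  | zero =>
    have := isIso_iCycles_zero P
    have h0 : PM (P.cycles 0) := pm_iso (asIso (P.iCycles 0)).symm (hP 0)
    exact ⟨h0, key 0 h0⟩
  | succ k ih =>
    have h0 : PM (P.cycles (k + 1)) := pm_left (ses_cyc P k) (hP (k + 1)) ih.2
    exact ⟨h0, key (k + 1) h0⟩

include hP hH in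
theorem sum_clP_aux (N : ℕ) : ∑ k ∈ Finset.range (N + 1), (-1 : ℤ) ^ k • clP (P.X k) =
    (-1 : ℤ) ^ N • clP (P.cycles N) + ∑ k ∈ Finset.range N, (-1 : ℤ) ^ k • clP (P.homology k) := by
  induction N with
  | zero =>
    have := isIso_iCycles_zero P
    rw [zero_add, Finset.sum_range_one, Finset.range_zero, Finset.sum_empty, add_zero, pow_zero, one_smul, one_smul]
    exact clP_iso (asIso (P.iCycles 0)).symm
  | succ N ih =>
    have h1 : clP (P.cycles N) = clP (bd P N) + clP (P.homology N) :=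
      clP_ses (ses_hom P N) (pm_cycles_bd P hP hH N).2 (pm_cycles_bd P hP hH N).1 (hH N)
    have h2 : clP (P.X (N + 1)) = clP (P.cycles (N + 1)) + clP (bd P N) :=
      clP_ses (ses_cyc P N) (pm_cycles_bd P hP hH (N + 1)).1 (hP (N + 1)) (pm_cycles_bd P hP hH N).2
    rw [Finset.sum_range_succ, ih, Finset.sum_range_succ, h1, h2, pow_succ]
    simp only [mul_neg, mul_one, smul_add, neg_smul]
    abel

include hP hH in
/-- The Euler characteristic. -/
theorem sum_clP (N : ℕ) (hN : IsZero (P.X (N + 1))) :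
    ∑ k ∈ Finset.range (N + 1), (-1 : ℤ) ^ k • clP (P.X k) =
      ∑ k ∈ Finset.range (N + 1), (-1 : ℤ) ^ k • clP (P.homology k) := by
  have h3 : IsZero (bd P N) := by
    have := (ses_cyc P N).epi_g
    exact IsZero.of_epi (toBd P N) hN
  have h1 : clP (P.cycles N) = clP (bd P N) + clP (P.homology N) :=
    clP_ses (ses_hom P N) (pm_cycles_bd P hP hH N).2 (pm_cycles_bd P hP hH N).1 (hH N)
  rw [sum_clP_aux P hP hH, Finset.sum_range_succ, h1, clP_isZero h3, zero_add, add_comm]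

end Euler

section Push

variable {Z₁ : Scheme.{u}} (j : Z₁ ⟶ Z) [IsClosedImmersion j] (hj : MoreMor.IsPerfectMor j)

include hj in
theorem pm_push {E : Z₁.Modules} (hE : FlatMod.IsFinLocFree E) : PM ((Scheme.Modules.pushforward j).obj E) := by
  have hR : DCoh.HasRpush j := Dcoh.DerSch.hasRpush _
  exact isPerfect_of_iso (Cohder.RelPCGraph.rpushInD j E)
    (Krr.H447.ClosedPerf.isPerfect_rpush j hj _ (isPerfect_inD_of_isFinLocFree hE))

/-- `[E] ↦ [j_* E]`. -/
noncomputable def pushC : SGA6.Kvb Z₁ →+ SGA6.Kperf Z :=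
  Sga67.KvbRing.lift (fun E => clP ((Scheme.Modules.pushforward j).obj E.1)) (fun S h₁ h₂ h₃ hS => by
    have := Sga67.ClosedPush.preservesFiniteColimits_pushforward j
    exact clP_ses (hS.map_of_exact (Scheme.Modules.pushforward j)) (pm_push j hj h₁) (pm_push j hj h₂)
      (pm_push j hj h₃))

theorem pushC_c {E : Z₁.Modules} (hE : FlatMod.IsFinLocFree E) :
    pushC j hj (Sga67.KvbRing.c E) = clP ((Scheme.Modules.pushforward j).obj E) :=
  Sga67.KvbRing.lift_c _ _ E hE

end Push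

open K266.KRing Groth.Agent.Sga67 Groth.Agent.Sga67.KvbRing Groth.Agent.Krr.H489.PullRes Groth.Agent.Krr.H468.TCx

theorem main {X Y X' Y' : Scheme.{u}} (L : X.Modules) (hL : CohB1.IsAmple L)
    (i : Y ⟶ X) [IsClosedImmersion i] (hi : RegImm.IsRegularImmersion .koszul i) (c : ℕ) (hN : FlatMod.IsFinLocFreeOfRank c (Omega.conormal i))
    (f : X' ⟶ X) (hf : BlowUp.IsBlowUp f i.ker) (j : Y' ⟶ X') [IsClosedImmersion j] (g : Y' ⟶ Y) (hsq : IsPullback j g f i)
    (φ : (Scheme.Modules.pullback g).obj (Omega.conormal i) ⟶ Omega.conormal j) (hφ : OmegaSh.IsConormalMap j i f g φ)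
    (Λ : ℕ → Y'.Modules) (hΛ : ∀ p : ℕ, ExtPow.IsExtPow p (kernel φ) (Λ p))
    [(Scheme.Modules.pushforward i).Additive] [PreservesFiniteLimits (Scheme.Modules.pushforward i)] [PreservesFiniteColimits (Scheme.Modules.pushforward i)]
    (hi' : ∀ K : DCoh.D Y, DCoh.IsPerfect K → DCoh.IsPerfect ((Scheme.Modules.pushforward i).mapDerivedCategory.obj K))
    [DCoh.HasLpull f] [(DCoh.Lpull f).CommShift ℤ] [(DCoh.Lpull f).IsTriangulated]
    (hf' : ∀ K : DCoh.D X, DCoh.IsPerfect K → DCoh.IsPerfect ((DCoh.Lpull f).obj K))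
    (M : Y.Modules) (hM : FlatMod.IsFinLocFree M) :
    SGA6.mapTr (DCoh.Lpull f) (SGA6.perfP X) (SGA6.perfP X') hf'
      (SGA6.mapTr ((Scheme.Modules.pushforward i).mapDerivedCategory) (SGA6.perfP Y) (SGA6.perfP X) hi' (KZero.clTr (SGA6.perfP Y) (DCoh.inD Y M))) =
    ∑ p ∈ Finset.range c, (-1 : ℤ) ^ p • KZero.clTr (SGA6.perfP X')
      (DCoh.inD X' ((Scheme.Modules.pushforward j).obj (((DCoh.tensorBi (X := Y')).obj ((Scheme.Modules.pullback g).obj M)).obj (Λ p)))) := by
  -- geometry of the exceptional divisor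
  have hE : BlowUp.IsEffCartierIdeal j.ker := Krr.H496.ExcBundle.isEff_exc hf hsq
  have hj : Mor2.IsRegularClosedImmersion j := Krr.H496.ExcBundle.isRegular_of_isEff j hE
  have hjp : MoreMor.IsPerfectMor j := Flat2H.RegPerf.isPerfectMor_of_isRegularClosedImmersion j hj
  have hC₁ : FlatMod.IsFinLocFreeOfRank 1 (Omega.conormal j) :=
    Krr.H496.GenLocus.isInv_iff.1 (Krr.H496.GenLocus.isInv_pullback j (Krr.H496.ExcBundle.isInv_idealMod hE))
  have hC₁' := Krr.H487.KerRank.isFinLocFree_of_rank hC₁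
  have hC := Krr.H487.KerRank.isFinLocFree_of_rank hN
  have hgC : FlatMod.IsFinLocFreeOfRank c ((Scheme.Modules.pullback g).obj (Omega.conormal i)) :=
    Krr.H482.PullLambda.isFinLocFreeOfRank_pullback g hN
  have hφe : Epi φ := by
    rw [K583.ConMap.eq_conormalMap hsq.w hφ]
    exact Grpsch.ConormalIso.epi_conormalMap hsq
  have hF : FlatMod.IsFinLocFree (kernel φ) :=
    Krr.H487.KerRank.isFinLocFree_left (Krr.H487.KerRank.shortExact_kernel φ)
      (Krr.H487.KerRank.isFinLocFree_of_rank hgC) hC₁'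
  have hΛf : ∀ p, FlatMod.IsFinLocFree (Λ p) := fun p => LocBasis.isFinLocFree_of_isExtPow hF (hΛ p)
  have hgM := PerfB.FlatPull.isFinLocFree_pullback g hM
  -- the resolution
  obtain ⟨m, R, π, hR⟩ := K535.KrSelf.hasLFRes L hL i hi M hM
  obtain ⟨E, hEf, hEi, hE0, hEs⟩ := ExcKos.exists_E hsq hi hj hC₁ hC hM hR
  have hcE : ∀ p, KvbRing.c (E p 0) =
      KvbRing.c (CohB1.tensorMod ((Scheme.Modules.pullback g).obj M) (Λ p)) := by
    intro p
    apply (toKR Y').injective
    have h1 := ExcKos.κ_E hi hj hC₁ hC hM hR hE0 hEs p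
    have h2 : κ ((Scheme.Modules.pullback g).obj (Omega.conormal i)) = κ (kernel φ) + κ (Omega.conormal j) :=
      κ_ses (Krr.H487.KerRank.shortExact_kernel φ) hF (Krr.H487.KerRank.isFinLocFree_of_rank hgC) hC₁'
    rw [h2, add_sub_cancel_right, SplitVb.lam_κ p hF (hΛ p)] at h1
    exact h1.trans (κ_tensor hgM (hΛf p)).symm
  have hzero : ∀ p, c ≤ p → KvbRing.c (E p 0) = 0 := by
    intro p hp
    have hr : FlatMod.IsFinLocFreeOfRank 0 (Λ p) := by
      by_cases hY : Nonempty Y'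
      · obtain ⟨y⟩ := hY
        have h1 : 1 ≤ c := Krr.H487.KerRank.rank_le (Krr.H487.KerRank.shortExact_kernel φ) hgC hC₁ y
        obtain ⟨r, rfl⟩ : ∃ r, c = r + 1 := ⟨c - 1, by omega⟩
        have h2 : FlatMod.IsFinLocFreeOfRank r (kernel φ) := Krr.H487.KerRank.isFinLocFreeOfRank_kernel φ hgC hC₁
        have h3 := Krr.H487.KerRank.isFinLocFreeOfRank_extPow h2 (hΛ p)
        rwa [Nat.choose_eq_zero_of_lt (by omega)] at h3
      · intro y
        exact (hY ⟨y⟩).elim
    have h4 : IsZero (Λ p) := Krr.H487.Taut.isZero_of_rank_zero hr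
    rw [hcE p]
    exact Groth.Agent.Sga67.SesImage.clSub_zero _ (((DCoh.tensorBi (X := Y')).obj _).map_isZero h4)
  -- the complex `f^* R`
  obtain ⟨N, hmN, hcN⟩ : ∃ N, m ≤ N ∧ c ≤ N := ⟨max m c, le_max_left _ _, le_max_right _ _⟩
  have hPf : ∀ k, FlatMod.IsFinLocFree ((pullCx f R).X k) := fun k =>
    PerfB.FlatPull.isFinLocFree_pullback f (hR.finLocFree k)
  have eH : ∀ p, Nonempty ((pullCx f R).homology p ≅ (Scheme.Modules.pushforward j).obj (E p 0)) := by
    intro p
    obtain ⟨e⟩ := hEi p 0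
    exact ⟨(Krr.H468.ExcMain.uUnitIso (pullCx f R) p).symm ≪≫ e⟩
  have hHp : ∀ p, PM ((pullCx f R).homology p) := fun p => pm_iso (eH p).some.symm (pm_push j hjp (hEf p 0))
  have hz : IsZero ((pullCx f R).X (N + 1)) :=
    Functor.map_isZero (Scheme.Modules.pullback f) (hR.isZero (N + 1) (by omega))
  have hχ := sum_clP (pullCx f R) (fun k => pm_flf (hPf k)) hHp N hz
  have hr : ∑ p ∈ Finset.range (N + 1), (-1 : ℤ) ^ p • clP ((pullCx f R).homology p) =
      ∑ p ∈ Finset.range c, (-1 : ℤ) ^ p • clP ((Scheme.Modules.pushforward j).obj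
        (CohB1.tensorMod ((Scheme.Modules.pullback g).obj M) (Λ p))) := by
    have h1 : ∀ p, clP ((pullCx f R).homology p) = pushC j hjp (KvbRing.c (E p 0)) := fun p => by
      rw [pushC_c j hjp (hEf p 0)]
      exact clP_iso (eH p).some
    rw [← Finset.sum_subset (Finset.range_mono (show c ≤ N + 1 by omega)) (f := fun p =>
      (-1 : ℤ) ^ p • clP ((pullCx f R).homology p))]
    · refine Finset.sum_congr rfl fun p _ => ?_
      rw [h1, hcE, pushC_c j hjp (LocBasis.isFinLocFree_tensorMod hgM (hΛf p))]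
    · intro p _ hp
      rw [Finset.mem_range, not_lt] at hp
      rw [h1, hzero p hp, map_zero, smul_zero]
  -- the left hand side
  have e : (Scheme.Modules.pushforward i).mapDerivedCategory.obj (DCoh.inD Y M) ≅
      DCoh.inD X ((Scheme.Modules.pushforward i).obj M) :=
    ((Scheme.Modules.pushforward i).mapDerivedCategorySingleFunctor 0).app M
  have hR' : KRR.IsLFRes ((Scheme.Modules.pushforward i).obj M) N R π :=
    ⟨hR.finLocFree, fun k hk => hR.isZero k (lt_of_le_of_lt hmN hk), hR.quasiIso⟩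
  have h1 : SGA6.mapTr ((Scheme.Modules.pushforward i).mapDerivedCategory) (SGA6.perfP Y) (SGA6.perfP X) hi'
      (KZero.clTr (SGA6.perfP Y) (DCoh.inD Y M)) = ∑ k ∈ Finset.range (N + 1), (-1 : ℤ) ^ k • clP (R.X k) := by
    rw [Sga67.K0Map.mapTr_clTr _ _ _ _ (isPerfect_inD_of_isFinLocFree hM), Krr.H467.DerPush.clTr_iso e,
      (Krr.H467.LFClass.isPerfect_and_clTr hR').2, map_sum]
    refine Finset.sum_congr rfl fun k _ => ?_
    rw [map_zsmul]
    congr 1
    exact Krr.H467.DerPush.rho_cl _ (hR.finLocFree k)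
  have h2 : ∀ k, SGA6.mapTr (DCoh.Lpull f) (SGA6.perfP X) (SGA6.perfP X') hf' (clP (R.X k)) =
      clP ((pullCx f R).X k) := by
    intro k
    rw [clP, Sga67.K0Map.mapTr_clTr _ _ _ _ (isPerfect_inD_of_isFinLocFree (hR.finLocFree k))]
    obtain ⟨e2⟩ := Krr.H473.LpullFlatMod.nonempty_lpull_inD f (R.X k) (hR.finLocFree k)
    exact Krr.H467.DerPush.clTr_iso e2
  rw [h1, map_sum]
  refine Eq.trans (Finset.sum_congr rfl fun k _ => ?_) (hχ.trans hr)
  rw [map_zsmul, h2]

end K266.ExcPerf
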