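import Groth.Agent.Sga67.K0Map
import Groth.Agent.PerfC.IsoLocus

/-!
# `K₀` of a triangulated category with a semi-orthogonal decomposition

Functions `φ j : C → D` and triangulated functors `ρ j : D ⥤ C`, `0 ≤ j ≤ r`, with `ρ_j φ_i = 0` for `i < j`,
`ρ_j φ_j ≅ id`, maps `φ_j ρ_j M ⟶ M` which `ρ_j` makes invertible, and `⋂ ker ρ_j = 0`: then
`(x_j) ↦ ∑ Φ_j x_j` is bijective on `K₀`.
-/

set_option autoImplicit false

universe v' u' v u

open CategoryTheory CategoryTheory.Limits Pretriangulated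

namespace K266.SemiOrth

open Groth.Agent.Sga67.K0Basic Groth.Agent.Sga67.K0Map Groth.Agent.PerfC.IsoLocus

variable {C : Type u} [Category.{v} C] [Preadditive C] [HasZeroObject C] [HasShift C ℤ]
  [∀ n : ℤ, (shiftFunctor C n).Additive] [Pretriangulated C]
variable {D : Type u'} [Category.{v'} D] [Preadditive D] [HasZeroObject D] [HasShift D ℤ]
  [∀ n : ℤ, (shiftFunctor D n).Additive] [Pretriangulated D]

theorem exists_mapTr {P : ObjectProperty D} {Q : ObjectProperty C} {F : D ⥤ C} (hF : IsTriang F)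
    (h : ∀ M, P M → Q (F.obj M)) : ∃ f : KZero.K0tr P →+ KZero.K0tr Q,
      ∀ M, P M → f (KZero.clTr P M) = KZero.clTr Q (F.obj M) := by
  obtain ⟨_, _⟩ := hF
  exact ⟨SGA6.mapTr F P Q h, fun M hM => mapTr_clTr F P Q h hM⟩

theorem isZero_of_isZero₁₂ {F : D ⥤ C} (hF : IsTriang F) {T : Triangle D} (hT : T ∈ distTriang D)
    (h₁ : IsZero (F.obj T.obj₁)) (h₂ : IsZero (F.obj T.obj₂)) : IsZero (F.obj T.obj₃) := by
  obtain ⟨_, _⟩ := hF
  exact Triangle.isZero₃_of_isZero₁₂ _ (F.map_distinguished T hT) h₁ h₂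

theorem isZero_of_isIso {F : D ⥤ C} (hF : IsTriang F) {T : Triangle D} (hT : T ∈ distTriang D)
    (h : IsIso (F.map T.mor₁)) : IsZero (F.obj T.obj₃) := by
  obtain ⟨_, _⟩ := hF
  exact (Triangle.isZero₃_iff_isIso₁ _ (F.map_distinguished T hT)).2 h

theorem bijective {P : ObjectProperty C} {Q : ObjectProperty D} [P.IsClosedUnderIsomorphisms]
    [P.ContainsZero]
    (hQ : ∀ T ∈ distTriang D, Q T.obj₁ → Q T.obj₂ → Q T.obj₃)
    {r : ℕ} (Φ : Fin (r + 1) → (KZero.K0tr P →+ KZero.K0tr Q)) (φ : Fin (r + 1) → C → D)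
    (hφ : ∀ j K, P K → Q (φ j K))
    (hΦ : ∀ j K, P K → Φ j (KZero.clTr P K) = KZero.clTr Q (φ j K))
    (ρ : Fin (r + 1) → D ⥤ C) (ht : ∀ j, IsTriang (ρ j))
    (hρ : ∀ j M, Q M → P ((ρ j).obj M))
    (h0 : ∀ i j K, P K → i < j → IsZero ((ρ j).obj (φ i K)))
    (h1 : ∀ j K, P K → Nonempty ((ρ j).obj (φ j K) ≅ K))
    (hb : ∀ j M, Q M → ∃ c : φ j ((ρ j).obj M) ⟶ M, IsIso ((ρ j).map c))
    (hc : ∀ M, Q M → (∀ j, IsZero ((ρ j).obj M)) → IsZero M) :
    Function.Bijective (fun x : Fin (r + 1) → KZero.K0tr P => ∑ i, Φ i (x i)) := by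
  choose ρK hρK using fun j => exists_mapTr (ht j) (hρ j)
  have e0 : ∀ i j, i < j → ∀ x, ρK j (Φ i x) = 0 := by
    intro i j hij x
    have h : (ρK j).comp (Φ i) = 0 := by
      refine hom_ext_tr fun K hK => ?_
      rw [AddMonoidHom.comp_apply, hΦ i K hK, hρK j _ (hφ i K hK), AddMonoidHom.zero_apply]
      exact clTr_of_isZero (h0 i j K hK hij)
    exact DFunLike.congr_fun h x
  have e1 : ∀ j x, ρK j (Φ j x) = x := by
    intro j x
    have h : (ρK j).comp (Φ j) = AddMonoidHom.id _ := by
      refine hom_ext_tr fun K hK => ?_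
      rw [AddMonoidHom.comp_apply, hΦ j K hK, hρK j _ (hφ j K hK), AddMonoidHom.id_apply]
      exact clTr_iso (h1 j K hK).some
    exact DFunLike.congr_fun h x
  constructor
  · have hz : ∀ z : Fin (r + 1) → KZero.K0tr P, ∑ i, Φ i (z i) = 0 → ∀ j, z j = 0 := by
      intro z hz
      suffices aux : ∀ n : ℕ, ∀ j : Fin (r + 1), r - (j : ℕ) = n → z j = 0 from fun j => aux _ j rfl
      refine fun n => Nat.strong_induction_on n fun n ih j hn => ?_
      have h2 : ρK j (∑ i, Φ i (z i)) = z j := by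
        rw [map_sum, Finset.sum_eq_single j]
        · exact e1 j _
        · intro i _ hij
          rcases lt_or_gt_of_ne hij with h | h
          · exact e0 i j h _
          · have h' : (j : ℕ) < i := h
            rw [ih (r - i) (by have := i.2; have := j.2; omega) i rfl,
              map_zero, map_zero]
        · intro h
          exact absurd (Finset.mem_univ j) h
      rw [← h2, hz, map_zero]
    intro x y hxy
    funext j
    have h3 := hz (fun i => x i - y i) (by
      simp only [map_sub, Finset.sum_sub_distrib]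
      exact sub_eq_zero.2 hxy) j
    exact sub_eq_zero.1 h3
  · let F : (Fin (r + 1) → KZero.K0tr P) →+ KZero.K0tr Q :=
      { toFun := fun x => ∑ i, Φ i (x i)
        map_zero' := by simp
        map_add' := by intro x y; simp [Finset.sum_add_distrib] }
    have hFs : ∀ j x, Φ j x ∈ F.range := by
      intro j x
      refine ⟨Pi.single j x, ?_⟩
      change ∑ i, Φ i ((Pi.single j x : Fin (r + 1) → KZero.K0tr P) i) = _
      rw [Finset.sum_eq_single j]
      · simp
      · intro i _ hij
        simp [Pi.single_eq_of_ne hij]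
      · intro h
        exact absurd (Finset.mem_univ j) h
    have key : ∀ k : ℕ, k ≤ r + 1 → ∀ M, Q M →
        (∀ j : Fin (r + 1), k ≤ (j : ℕ) → IsZero ((ρ j).obj M)) → KZero.clTr Q M ∈ F.range := by
      intro k
      induction k with
      | zero =>
        intro _ M hM h
        rw [clTr_of_isZero (hc M hM fun j => h j (Nat.zero_le _))]
        exact zero_mem _
      | succ k ih =>
        intro hk M hM h
        let j : Fin (r + 1) := ⟨k, by omega⟩
        obtain ⟨c, hc'⟩ := hb j M hM
        obtain ⟨N, p, q, hT⟩ := distinguished_cocone_triangle c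
        have h2 : Q (φ j ((ρ j).obj M)) := hφ j _ (hρ j M hM)
        have h3 : Q N := hQ _ hT h2 hM
        have h4 : KZero.clTr Q N ∈ F.range := by
          refine ih (by omega) N h3 fun i hi => ?_
          rcases eq_or_lt_of_le hi with h5 | h5
          · have h6 : i = j := Fin.ext h5.symm
            subst h6
            exact isZero_of_isIso (ht _) hT hc'
          · exact isZero_of_isZero₁₂ (ht i) hT (h0 j i _ (hρ j M hM) h5) (h i h5)
        have h5 := clTr_of_triangle _ hT h2 hM h3
        change KZero.clTr Q M = KZero.clTr Q (φ j ((ρ j).obj M)) + KZero.clTr Q N at h5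
        rw [h5]
        refine add_mem ?_ h4
        rw [← hΦ j _ (hρ j M hM)]
        exact hFs j _
    have htop : F.range = ⊤ := eq_top_of_clTr_mem _ fun M hM =>
      key (r + 1) le_rfl M hM fun j hj => absurd j.2 (by omega)
    intro y
    obtain ⟨x, hx⟩ := AddMonoidHom.mem_range.1 (htop ▸ AddSubgroup.mem_top y : y ∈ F.range)
    exact ⟨x, hx⟩

end K266.SemiOrth
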