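import Groth.Agent.SGA6.K266.PnDet
import Groth.Agent.SGA6.K266.SemiOrth
import Groth.Agent.Krr.H471.Indep
import Groth.Agent.Krr.H447.ProjPerf
import Groth.Agent.S0887
import Groth.Agent.Sga67.BlowK0
import Groth.Agent.Ega3B.ProjProper

/-!
# `K₀(Perf(P^r_S))` is free over `K₀(Perf(S))` on `1, ξ, …, ξ^r`
-/

set_option autoImplicit false

universe u

open CategoryTheory CategoryTheory.Limits AlgebraicGeometry Pretriangulated
attribute [local instance] HasDerivedCategory.standard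

namespace K266.PnSemi

open Groth.Agent Groth.Agent.PerfB.TensD Groth.Agent.PerfB.TensExact Groth.Agent.PerfB.TensInv
  Groth.Agent.PerfC.DTens Groth.Agent.Dcoh.DerPull Groth.Agent.PerfA.Restrict
  Groth.Agent.PerfC.ProjAbs291 Groth.Agent.PerfC.IsoLocus K266.PnDet Groth.Agent.Krr.H471

theorem map_eq_of_iso {C : Type*} [Category* C] {F : C ⥤ C} (e : F ≅ 𝟭 C) {X Y : C} (f : X ⟶ Y) :
    F.map f = e.hom.app X ≫ f ≫ e.inv.app Y := by
  have h : F.map f ≫ e.hom.app Y = e.hom.app X ≫ f := e.hom.naturality f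
  rw [← cancel_mono (e.hom.app Y), h]
  simp

variable (r : ℕ) (S : Scheme.{u})

instance isProper_pr : IsProper (KRR.pr r S) := Ega3B.ProjProper.isProper_toBase r S

/-- `K ↦ K(d)` on `D(P^r_S)`. -/
noncomputable abbrev TD (d : ℤ) : DCoh.D (KRR.PY r S) ⥤ DCoh.D (KRR.PY r S) :=
  tensD (Twist.twistOver r S d)

theorem nonempty_TD_comp {a b c : ℤ} (h : a + b = c) : Nonempty (TD r S a ⋙ TD r S b ≅ TD r S c) := by
  subst h
  obtain ⟨e⟩ := Sga67.TwistOver.nonempty_twistOver_mul r S a b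
  exact TensTw.nonempty_comp e

theorem nonempty_TD_zero : Nonempty (TD r S 0 ≅ 𝟭 _) := by
  obtain ⟨e⟩ := Sga67.TwistOver.nonempty_twistOver_zero r S
  exact TensTw.nonempty_id e

theorem nonempty_TD_inv {a b : ℤ} (h : a + b = 0) : Nonempty (TD r S a ⋙ TD r S b ≅ 𝟭 _) := by
  obtain ⟨e⟩ := nonempty_TD_comp r S h
  obtain ⟨e'⟩ := nonempty_TD_zero r S
  exact ⟨e ≪≫ e'⟩

/-- `O(d)` is `O(d)` on charts. -/
theorem isTwist (d : ℤ) : ChartVan.IsTwist r (KRR.pr r S) (Twist.twistOver r S d) d := by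
  intro x
  obtain ⟨W, hW, hxW, -⟩ := exists_isAffineOpen_mem_and_subset (X := S) (U := ⊤) (x := x) trivial
  refine ⟨{ A := Γ(S, W), h := hW.fromSpec, c := Ega3A.PChart.chart r hW.fromSpec,
            isPullback := Ega3A.PChart.isPullback_chart r hW.fromSpec }, ?_,
    ⟨Ega3A.PChart.chartTwistIso r _ d⟩⟩
  rw [hW.range_fromSpec]
  exact hxW

section push

variable [DCoh.HasRpush (KRR.pr r S)]

theorem nonempty_R_O : Nonempty ((DCoh.Rpush (KRR.pr r S)).obj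
    (DCoh.inD (KRR.PY r S) (Coh.structureModule (KRR.PY r S))) ≅ DCoh.inD S (Coh.structureModule S)) := by
  obtain ⟨e⟩ := Sga67.TwistOver.nonempty_twistOver_mul r S 1 (-1)
  obtain ⟨e'⟩ := Sga67.TwistOver.nonempty_twistOver_zero r S
  obtain ⟨a⟩ := Indep.nonempty_Rpush_pullback (isTwist r S 1)
    (show ((DCoh.tensorBi (X := KRR.PY r S)).obj (Twist.twistOver r S 1)).obj (Twist.twistOver r S (-1)) ≅
      Coh.structureModule (KRR.PY r S) from e ≪≫ eqToIso (by norm_num) ≪≫ e')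
    (G := Coh.structureModule S) Sga67.TensorOps.isFinLocFree_structureModule
  obtain ⟨b⟩ := Ega3B.PullTensor.nonempty_pullUnitIso (KRR.pr r S)
  exact ⟨(DCoh.Rpush (KRR.pr r S)).mapIso ((DerivedCategory.singleFunctor _ 0).mapIso b.symm) ≪≫ a⟩

theorem isZero_R_O (d : ℤ) (h1 : -(r : ℤ) ≤ d) (h2 : d ≤ -1) : IsZero ((DCoh.Rpush (KRR.pr r S)).obj
    (DCoh.inD (KRR.PY r S) (Twist.twistOver r S d))) := by
  obtain ⟨b⟩ := Ega3B.PullTensor.nonempty_pullUnitIso (KRR.pr r S)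
  refine PushPerf.isZero_Rpush_inD (KRR.pr r S) fun q => ?_
  refine (ChartVan.isZero_Rpush (isTwist r S d)
    (Ega2.QCohLocal.isFinLocFree_of_rank (Ega2.QCohLocal.isFinLocFreeOfRank_one_iff.mpr
      (Ega3B.ProjFrame.isInvertible_twistOver r d)))
    (G := Coh.structureModule S) Sga67.TensorOps.isFinLocFree_structureModule q (Or.inr ⟨h1, h2⟩)).of_iso
    ((Coh.Rpush (KRR.pr r S) q).mapIso ?_)
  exact (Ega2.Tens.mapTIso (Iso.refl _) b ≪≫ Ega2.Tens.runit _).symm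

variable [DCoh.HasLpull (KRR.pr r S)]

/-- The unit `K ⟶ Rf_* Lf^* K` is an isomorphism. -/
theorem isIso_unit {K : DCoh.D S} (hK : DCoh.IsQCohD K) : IsIso ((lpullAdj (KRR.pr r S)).unit.app K) := by
  obtain ⟨e⟩ := nonempty_R_O r S
  exact PerfUnit.isIso_unit _ e hK

/-- `Rf_*((Lf^* K)(d)) = 0` for `-r ≤ d ≤ -1`. -/
theorem isZero_R_TD (d : ℤ) (h1 : -(r : ℤ) ≤ d) (h2 : d ≤ -1) {K : DCoh.D S} (hK : DCoh.IsQCohD K) :
    IsZero ((DCoh.Rpush (KRR.pr r S)).obj ((TD r S d).obj ((DCoh.Lpull (KRR.pr r S)).obj K))) := by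
  obtain ⟨e⟩ := TensTw.nonempty_LTX (isFlat_of_isInvertible (Ega3B.ProjFrame.isInvertible_twistOver r d))
    ((DCoh.Lpull (KRR.pr r S)).obj K)
  refine (PerfUnit.isZero_push (KRR.pr r S) (PerfA.QCohD.isQCohD_inD _ (isQCoh_of_isInvertible
    (Ega3B.ProjFrame.isInvertible_twistOver r d))) (isZero_R_O r S d h1 h2) hK).of_iso
    ((DCoh.Rpush (KRR.pr r S)).mapIso e.symm)

/-- `Rf_*` of the counit is an isomorphism where `Rf_* N` has quasi-coherent cohomology. -/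
theorem isIso_R_counit {N : DCoh.D (KRR.PY r S)} (hN : DCoh.IsQCohD ((DCoh.Rpush (KRR.pr r S)).obj N)) :
    IsIso ((DCoh.Rpush (KRR.pr r S)).map ((lpullAdj (KRR.pr r S)).counit.app N)) := by
  have h1 := isIso_unit r S hN
  have h2 := (lpullAdj (KRR.pr r S)).right_triangle_components N
  have h3 : IsIso ((lpullAdj (KRR.pr r S)).unit.app ((DCoh.Rpush (KRR.pr r S)).obj N) ≫
      (DCoh.Rpush (KRR.pr r S)).map ((lpullAdj (KRR.pr r S)).counit.app N)) := by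
    rw [h2]
    exact IsIso.id _
  exact IsIso.of_isIso_comp_left ((lpullAdj (KRR.pr r S)).unit.app _) _

omit [DCoh.HasLpull (KRR.pr r S)] in
/-- `Rf_*(-(−i))` of `(Lf^* K)(j)` -/
theorem nonempty_ρφ (a b c : ℤ) (h : a + b = c) (K : DCoh.D (KRR.PY r S)) :
    Nonempty ((TD r S b ⋙ DCoh.Rpush (KRR.pr r S)).obj ((TD r S a).obj K) ≅
      (DCoh.Rpush (KRR.pr r S)).obj ((TD r S c).obj K)) := by
  obtain ⟨e⟩ := nonempty_TD_comp r S h
  exact ⟨(DCoh.Rpush (KRR.pr r S)).mapIso (e.app K)⟩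

/-- The counit `(Lf^* Rf_* (M(-j)))(j) ⟶ M`, which is made invertible by `Rf_*(-(−j))`. -/
theorem exists_counit (a b : ℤ) (h : a + b = 0) (M : DCoh.D (KRR.PY r S))
    (hM : DCoh.IsQCohD ((DCoh.Rpush (KRR.pr r S)).obj ((TD r S b).obj M))) :
    ∃ c : (TD r S a).obj ((DCoh.Lpull (KRR.pr r S)).obj
      ((TD r S b ⋙ DCoh.Rpush (KRR.pr r S)).obj M)) ⟶ M,
      IsIso ((TD r S b ⋙ DCoh.Rpush (KRR.pr r S)).map c) := by
  obtain ⟨e⟩ := nonempty_TD_inv r S (show b + a = 0 by omega)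
  obtain ⟨e'⟩ := nonempty_TD_inv r S h
  have h1 := isIso_R_counit r S hM
  refine ⟨(TD r S a).map ((lpullAdj (KRR.pr r S)).counit.app ((TD r S b).obj M)) ≫ e.hom.app M, ?_⟩
  have h2 : (TD r S b).map ((TD r S a).map ((lpullAdj (KRR.pr r S)).counit.app ((TD r S b).obj M))) =
      e'.hom.app _ ≫ (lpullAdj (KRR.pr r S)).counit.app ((TD r S b).obj M) ≫ e'.inv.app _ :=
    map_eq_of_iso e' _
  rw [Functor.comp_map, Functor.map_comp, Functor.map_comp, h2, Functor.map_comp, Functor.map_comp]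
  infer_instance

end push

/-- **`K^•(P^r_S)` is free over `K^•(S)` on `1, ξ, …, ξ^r`.** -/
theorem main (S : Scheme.{u}) [CompactSpace ↥S] (r : ℕ)
    [DCoh.HasLpull (KRR.pr r S)] [(DCoh.Lpull (KRR.pr r S)).CommShift ℤ] [(DCoh.Lpull (KRR.pr r S)).IsTriangulated]
    (hf : ∀ K : DCoh.D S, DCoh.IsPerfect K → DCoh.IsPerfect ((DCoh.Lpull (KRR.pr r S)).obj K))
    [∀ i : ℕ, PreservesFiniteLimits ((DCoh.tensorBi (X := KRR.PY r S)).obj (Twist.twistOver r S (i : ℤ)))]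
    [∀ i : ℕ, PreservesFiniteColimits ((DCoh.tensorBi (X := KRR.PY r S)).obj (Twist.twistOver r S (i : ℤ)))]
    (ht : ∀ (i : ℕ) (K : DCoh.D (KRR.PY r S)), DCoh.IsPerfect K →
      DCoh.IsPerfect ((((DCoh.tensorBi (X := KRR.PY r S)).obj (Twist.twistOver r S (i : ℤ))).mapDerivedCategory).obj K)) :
    Function.Bijective (fun x : Fin (r + 1) → SGA6.Kperf S =>
      ∑ i : Fin (r + 1), SGA6.mapTr (((DCoh.tensorBi (X := KRR.PY r S)).obj (Twist.twistOver r S ((i : ℕ) : ℤ))).mapDerivedCategory)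
          (SGA6.perfP (KRR.PY r S)) (SGA6.perfP (KRR.PY r S)) (ht i)
        (SGA6.mapTr (DCoh.Lpull (KRR.pr r S)) (SGA6.perfP S) (SGA6.perfP (KRR.PY r S)) hf (x i))) := by
  have := Dcoh.DerSch.hasRpush (KRR.pr r S)
  have hbr : ∀ i : ℕ, Nonempty (((DCoh.tensorBi (X := KRR.PY r S)).obj
      (Twist.twistOver r S (i : ℤ))).mapDerivedCategory ≅ TD r S i) := fun i => TensTw.nonempty_braid _
  let β := fun i => (hbr i).some
  have hR : ∀ (d : ℤ) (M : DCoh.D (KRR.PY r S)), DCoh.IsPerfect M →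
      DCoh.IsPerfect ((DCoh.Rpush (KRR.pr r S)).obj ((TD r S d).obj M)) := fun d M hM =>
    Krr.H447.ProjPerf.isPerfect_rpush_pr r S _
      (TensTw.isPerfect (Ega3B.ProjFrame.isInvertible_twistOver r d) hM)
  have hq : ∀ {X : Scheme.{u}} {K : DCoh.D X}, DCoh.IsPerfect K → DCoh.IsQCohD K := fun h =>
    PerfA.QCohD.isQCohD_of_isPerfect _ h
  refine SemiOrth.bijective (P := SGA6.perfP S) (Q := SGA6.perfP (KRR.PY r S))
    (fun T hT h1 h2 => (Groth.Agent.S0887.result T hT).1 h1 h2)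
    (fun i : Fin (r + 1) => (SGA6.mapTr (((DCoh.tensorBi (X := KRR.PY r S)).obj
      (Twist.twistOver r S ((i : ℕ) : ℤ))).mapDerivedCategory)
          (SGA6.perfP (KRR.PY r S)) (SGA6.perfP (KRR.PY r S)) (ht i)).comp
        (SGA6.mapTr (DCoh.Lpull (KRR.pr r S)) (SGA6.perfP S) (SGA6.perfP (KRR.PY r S)) hf))
    (fun i K => (((DCoh.tensorBi (X := KRR.PY r S)).obj
      (Twist.twistOver r S ((i : ℕ) : ℤ))).mapDerivedCategory).obj ((DCoh.Lpull (KRR.pr r S)).obj K))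
    (fun i K hK => ht i _ (hf K hK)) (fun i K hK => ?_)
    (fun j => TD r S (-((j : ℕ) : ℤ)) ⋙ DCoh.Rpush (KRR.pr r S))
    (fun j => (IsTriang.mk' _).comp (isTriang_Rpush _)) (fun j M hM => hR _ M hM) (fun i j K hK hij => ?_)
    (fun j K hK => ?_) (fun j M hM => ?_) (fun M hM h => ?_)
  · rw [AddMonoidHom.comp_apply, Sga67.K0Map.mapTr_clTr _ _ _ hf hK]
    exact Sga67.K0Map.mapTr_clTr _ _ _ (ht i) (hf K hK)
  · obtain ⟨e⟩ := nonempty_ρφ r S i (-((j : ℕ) : ℤ)) ((i : ℕ) - (j : ℕ) : ℤ) (by ring)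
      ((DCoh.Lpull (KRR.pr r S)).obj K)
    have hij' : (i : ℕ) < j := hij
    have := j.2
    refine (isZero_R_TD r S ((i : ℕ) - (j : ℕ) : ℤ) (by omega) (by omega) (hq hK)).of_iso
      ((TD r S (-((j : ℕ) : ℤ)) ⋙ DCoh.Rpush (KRR.pr r S)).mapIso ((β i).app _) ≪≫ e)
  · obtain ⟨e⟩ := nonempty_ρφ r S j (-((j : ℕ) : ℤ)) 0 (by ring) ((DCoh.Lpull (KRR.pr r S)).obj K)
    obtain ⟨e'⟩ := nonempty_TD_zero r S
    have := isIso_unit r S (hq hK)
    exact ⟨(TD r S (-((j : ℕ) : ℤ)) ⋙ DCoh.Rpush (KRR.pr r S)).mapIso ((β j).app _) ≪≫ e ≪≫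
      (DCoh.Rpush (KRR.pr r S)).mapIso (e'.app _) ≪≫ (asIso ((lpullAdj (KRR.pr r S)).unit.app K)).symm⟩
  · obtain ⟨c, hc⟩ := exists_counit r S j (-((j : ℕ) : ℤ)) (by ring) M (hq (hR _ M hM))
    refine ⟨(β j).hom.app _ ≫ c, ?_⟩
    rw [Functor.map_comp]
    infer_instance
  · have h1 : IsZero ((TD r S (-(r : ℤ))).obj M) := by
      refine PnDet.isZero r S _ (hq (TensTw.isPerfect (Ega3B.ProjFrame.isInvertible_twistOver r _) hM))
        fun d hd => ?_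
      obtain ⟨e⟩ := nonempty_ρφ r S (-(r : ℤ)) d (-((r - d : ℕ) : ℤ)) (by omega) M
      exact (h ⟨r - d, by omega⟩).of_iso e
    obtain ⟨e⟩ := nonempty_TD_inv r S (show (-(r : ℤ)) + r = 0 by ring)
    exact ((TD r S r).map_isZero h1).of_iso (e.symm.app M)

end K266.PnSemi
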