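import Groth.Agent.SGA6.K266.SplitVb
import Groth.Agent.LambdaRing.K536.RatSpecial

/-!
# The Grothendieck ring of a quasi-compact scheme is a special λ-ring
-/

set_option autoImplicit false

universe u v w

open CategoryTheory CategoryTheory.Limits AlgebraicGeometry

namespace K266.SpecialFinal

open Groth.Agent Groth.Agent.Sga67.KvbRing K266.KRing K266.SplitVb Groth.Agent.Krr.H482.LamAlg
open Groth.Agent.Sga67.LocBasis Groth.Agent.Sga67.TensorOps

theorem main (S : Scheme.{u}) [CompactSpace ↥S]
    (K : Type v) [CommRing K] [LambdaRing.LambdaOps K] (φ : SGA6.Kvb S →+ K) (hφ : Function.Bijective φ)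
    (h1 : φ (KRR.cl S (Coh.structureModule S)) = 1)
    (hmul : ∀ E F : S.Modules, FlatMod.IsFinLocFree E → FlatMod.IsFinLocFree F →
      φ (KRR.cl S E) * φ (KRR.cl S F) = φ (KRR.cl S (((DCoh.tensorBi (X := S)).obj E).obj F)))
    (hlam : ∀ (i : ℕ) (E L : S.Modules), FlatMod.IsFinLocFree E → FlatMod.IsFinLocFree L →
      ExtPow.IsExtPow i E L → LambdaRing.LambdaOps.lam i (φ (KRR.cl S E)) = φ (KRR.cl S L)) :
    LambdaRing.IsSpecial K := by
  let g : KR S →+ K := φ.comp (toKR S).symm.toAddMonoidHom
  have hg : Function.Bijective g := hφ.comp (toKR S).symm.bijective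
  have hgκ : ∀ E : S.Modules, g (κ E) = φ (KRR.cl S E) := fun E => rfl
  let e : KR S ≃+ K := AddEquiv.ofBijective g hg
  have hmul' : ∀ x y, g (x * y) = g x * g y := by
    intro x y
    refine induction (C := fun x => g (x * y) = g x * g y) (fun E hE => ?_) (fun a b ha hb => ?_) x
    · refine induction (C := fun y => g (κ E * y) = g (κ E) * g y) (fun F hF => ?_) (fun a b ha hb => ?_) y
      · rw [← κ_tensor hE hF, hgκ, hgκ, hgκ, hmul E F hE hF]
        rfl
      · rw [mul_sub, map_sub, ha, hb, map_sub, mul_sub]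
    · rw [sub_mul, map_sub, ha, hb, map_sub, sub_mul]
  let G : KR S →+* K := { g with map_one' := h1, map_mul' := hmul' }
  have hG : ∀ x, CommAt G x := by
    intro x
    refine induction (C := fun x => CommAt G x) (fun E hE i => ?_) (fun a b ha hb => ha.sub hb) x
    obtain ⟨L, hL, hL'⟩ := Krr.H495.Model.hext S i E hE
    rw [lam_κ i hE hL']
    exact (hlam i E L hE hL hL').symm
  let H : KR S ≃+* K := RingEquiv.ofBijective G hg
  refine K536.RatSpecial.isSpecial_of_injective (K' := KR S) H.symm.toRingHom H.symm.injective (fun n x => ?_)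
    (isSpecial S)
  change H.symm (LambdaRing.LambdaOps.lam n x) = LambdaRing.LambdaOps.lam n (H.symm x)
  rw [RingEquiv.symm_apply_eq]
  have := hG (H.symm x) n
  change H _ = LambdaRing.LambdaOps.lam n (H _) at this
  rw [this, H.apply_symm_apply]

end K266.SpecialFinal
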