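import Groth.Agent.PerfC.ProjAbs291
import Groth.Agent.PerfC.LTXRestr
import Groth.Agent.Dcoh.LTXMon305
import Groth.Agent.Dcoh.LTMod
import Groth.Agent.Dual.H311.AbsIso
import Groth.Agent.PerfB.UnitComm
import Groth.Agent.PerfB.TensD

/-!
# The unit `K ⟶ Rf_* Lf^* K`, and vanishing of `Rf_*(E ⊗ Lf^* K)`

For `f` quasi-compact and quasi-separated: if `Rf_* O_X ≅ O_Y` (by any isomorphism) the unit
`K ⟶ Rf_* Lf^* K` is an isomorphism for all `K` with quasi-coherent cohomology; if `Rf_* E = 0` then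
`Rf_* (E ⊗ᴸ Lf^* K) = 0` for all such `K`.
-/

set_option autoImplicit false

universe u v₁ v₂ u₁ u₂

open CategoryTheory CategoryTheory.Limits AlgebraicGeometry MonoidalCategory
attribute [local instance] HasDerivedCategory.standard

open scoped Groth.Agent.Dcoh.MonCat Groth.Agent.Dcoh.ModD

namespace K266.PerfUnit

open Groth.Agent Groth.Agent.PerfC.DTens Groth.Agent.PerfC.ProjAbs291 Groth.Agent.PerfC.IsoLocus
  Groth.Agent.Dcoh.DerPull

/-- The unit of an adjunction is an isomorphism on `K` if `K ≅ R L K` in some way and `End (L K)` is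
commutative. -/
theorem isIso_unit_of_iso {C : Type u₁} [Category.{v₁} C] {D : Type u₂} [Category.{v₂} D]
    {L : C ⥤ D} {R : D ⥤ C} (adj : L ⊣ R) (K : C) (φ : K ≅ R.obj (L.obj K))
    (hc : ∀ a b : L.obj K ⟶ L.obj K, a ≫ b = b ≫ a) : IsIso (adj.unit.app K) := by
  let ψ : L.obj K ⟶ L.obj K := (adj.homEquiv _ _).symm φ.hom
  have h1 : adj.homEquiv _ _ ψ = φ.hom := (adj.homEquiv _ _).apply_symm_apply _
  let a : K ⟶ K := adj.unit.app K ≫ φ.inv
  have h2 : L.map a ≫ ψ = 𝟙 _ := by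
    apply (adj.homEquiv _ _).injective
    rw [Adjunction.homEquiv_naturality_left, h1, Adjunction.homEquiv_id]
    change (adj.unit.app K ≫ φ.inv) ≫ φ.hom = _
    rw [Category.assoc, φ.inv_hom_id]
    exact Category.comp_id _
  have h3 : ψ ≫ L.map a = 𝟙 _ := by rw [hc, h2]
  have : IsIso ψ := ⟨L.map a, h3, h2⟩
  have h4 : adj.unit.app K ≫ R.map ψ = φ.hom := (Adjunction.homEquiv_unit ..).symm.trans h1
  have h5 : IsIso (adj.unit.app K ≫ R.map ψ) := by rw [h4]; infer_instance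
  exact IsIso.of_isIso_comp_right _ (R.map ψ)

section zero

variable {X Y : Scheme.{u}}

theorem resTens : ResTens.{u} := fun j _ A B => ⟨PerfC.LTXRestr.restrTensObj j A B⟩

/-- `O ⊗ᴸ - ≅ id`. -/
theorem nonempty_unit (X : Scheme.{u}) :
    Nonempty ((LTX X).obj (DCoh.inD X (Coh.structureModule X)) ≅ 𝟭 (DCoh.D X)) := by
  obtain ⟨e⟩ := Dcoh.LTXMon305.nonempty_LTXobj (DCoh.inD X (Coh.structureModule X))
  exact ⟨e ≪≫ (curriedTensor (DCoh.D X)).mapIso (Dcoh.DualX.unitIso X) ≪≫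
    leftUnitorNatIso (DCoh.D X)⟩

/-- `E ⊗ᴸ O ≅ E`. -/
theorem nonempty_unit' (E : DCoh.D X) :
    Nonempty (((LTX X).obj E).obj (DCoh.inD X (Coh.structureModule X)) ≅ E) := by
  obtain ⟨e⟩ := Dcoh.LTXMon305.nonempty_LTXobj E
  exact ⟨e.app _ ≪≫ (tensorLeft E).mapIso (Dcoh.DualX.unitIso X) ≪≫ ρ_ E⟩

theorem end_comm (X : Scheme.{u}) (n : ℤ) {M : DCoh.D X}
    (e : M ≅ (DCoh.inD X (Coh.structureModule X))⟦n⟧) (a b : M ⟶ M) : a ≫ b = b ≫ a := by
  refine Dual.H311.AbsIso.end_comm_of_iso e.symm (fun a b => ?_) a b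
  obtain ⟨a', rfl⟩ := (shiftFunctor (DCoh.D X) n).map_surjective a
  obtain ⟨b', rfl⟩ := (shiftFunctor (DCoh.D X) n).map_surjective b
  obtain ⟨a, rfl⟩ := (DerivedCategory.singleFunctor X.Modules 0).map_surjective a'
  obtain ⟨b, rfl⟩ := (DerivedCategory.singleFunctor X.Modules 0).map_surjective b'
  rw [← Functor.map_comp, ← Functor.map_comp, ← Functor.map_comp, ← Functor.map_comp,
    PerfB.UnitComm.end_comm a b]

/-- `Lf^* O_S ≅ O_X`. -/
noncomputable def lpullO (f : X ⟶ Y) [DCoh.HasLpull f] :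
    (DCoh.Lpull f).obj (DCoh.inD Y (Coh.structureModule Y)) ≅ DCoh.inD X (Coh.structureModule X) :=
  (DCoh.Lpull f).mapIso ((DerivedCategory.singleFunctorIsoCompQ Y.Modules 0).app
    (Coh.structureModule Y)) ≪≫ PerfC.LpullTens.lpullUnit f ≪≫
    ((DerivedCategory.singleFunctorIsoCompQ X.Modules 0).app (Coh.structureModule X)).symm

/-- The unit is an isomorphism on the shifts of `O_Y`. -/
theorem isIso_unit_shift (f : X ⟶ Y) [DCoh.HasRpush f] [DCoh.HasLpull f]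
    (e : (DCoh.Rpush f).obj (DCoh.inD X (Coh.structureModule X)) ≅ DCoh.inD Y (Coh.structureModule Y))
    (n : ℤ) : IsIso ((lpullAdj f).unit.app ((DCoh.inD Y (Coh.structureModule Y))⟦n⟧)) := by
  let _ := lpullCommShift f
  let _ := Dcoh.DerSch.rpushCommShift f
  let a : (DCoh.Lpull f).obj ((DCoh.inD Y (Coh.structureModule Y))⟦n⟧) ≅
      (DCoh.inD X (Coh.structureModule X))⟦n⟧ :=
    ((DCoh.Lpull f).commShiftIso n).app _ ≪≫ (shiftFunctor _ n).mapIso (lpullO f)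
  let b : (DCoh.inD Y (Coh.structureModule Y))⟦n⟧ ≅
      (DCoh.Rpush f).obj ((DCoh.Lpull f).obj ((DCoh.inD Y (Coh.structureModule Y))⟦n⟧)) :=
    ((DCoh.Rpush f).mapIso a ≪≫ ((DCoh.Rpush f).commShiftIso n).app _ ≪≫
      (shiftFunctor _ n).mapIso e).symm
  exact isIso_unit_of_iso (lpullAdj f) _ b (end_comm X n a)

/-- If `Rf_* O_X ≅ O_Y` then `K ≅ Rf_* Lf^* K` by the unit, for `K` with quasi-coherent cohomology. -/
theorem isIso_unit (f : X ⟶ Y) [QuasiCompact f] [QuasiSeparated f] [DCoh.HasRpush f] [DCoh.HasLpull f]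
    (e : (DCoh.Rpush f).obj (DCoh.inD X (Coh.structureModule X)) ≅ DCoh.inD Y (Coh.structureModule Y))
    {K : DCoh.D Y} (hK : DCoh.IsQCohD K) : IsIso ((lpullAdj f).unit.app K) := by
  obtain ⟨u⟩ := nonempty_unit Y
  obtain ⟨v⟩ := nonempty_unit X
  let w : DCoh.Lpull f ⋙ (LTX X).obj (DCoh.inD X (Coh.structureModule X)) ⋙ DCoh.Rpush f ≅
      DCoh.Lpull f ⋙ DCoh.Rpush f := Functor.isoWhiskerLeft _ (Functor.isoWhiskerRight v _ ≪≫
        Functor.leftUnitor _)
  let τ : (LTX Y).obj (DCoh.inD Y (Coh.structureModule Y)) ⟶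
      DCoh.Lpull f ⋙ (LTX X).obj (DCoh.inD X (Coh.structureModule X)) ⋙ DCoh.Rpush f :=
    u.hom ≫ (lpullAdj f).unit ≫ w.inv
  have hτ : ∀ K, IsIso (τ.app K) ↔ IsIso ((lpullAdj f).unit.app K) := by
    intro K
    constructor
    · intro h
      have h2 : (lpullAdj f).unit.app K = u.inv.app K ≫ τ.app K ≫ w.hom.app K := by
        simp [τ]
      rw [h2]
      infer_instance
    · intro h
      change IsIso (u.hom.app K ≫ (lpullAdj f).unit.app K ≫ w.inv.app K)
      infer_instance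
  rw [← hτ]
  refine isIso_app resTens f ?_ τ (fun n => (hτ _).2 ?_) hK
  · exact PerfA.QCohD.isQCohD_inD _ (PerfA.QCohSerre.isQCoh_unit X)
  · exact isIso_unit_shift f e n

/-- If `Rf_* E = 0` then `Rf_* (E ⊗ Lf^* K) = 0`, for `K` with quasi-coherent cohomology. -/
theorem isZero_push (f : X ⟶ Y) [QuasiCompact f] [QuasiSeparated f] [DCoh.HasRpush f] [DCoh.HasLpull f]
    {E : DCoh.D X} (hE : DCoh.IsQCohD E) (h0 : IsZero ((DCoh.Rpush f).obj E))
    {K : DCoh.D Y} (hK : DCoh.IsQCohD K) :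
    IsZero ((DCoh.Rpush f).obj (((LTX X).obj E).obj ((DCoh.Lpull f).obj K))) := by
  obtain ⟨Z, hZ⟩ : ∃ Z : DCoh.D Y, IsZero Z := HasZeroObject.zero
  have hz : ∀ K : DCoh.D Y, IsZero (((LTX Y).obj Z).obj K) := by
    intro K
    have := (isTriang_LTX_flip_obj K).additive
    exact ((LTX Y).flip.obj K).map_isZero hZ
  let τ : (LTX Y).obj Z ⟶ DCoh.Lpull f ⋙ (LTX X).obj E ⋙ DCoh.Rpush f :=
    { app := fun K => 0
      naturality := fun _ _ _ => (hz _).eq_of_src _ _ }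
  have h1 := isIso_app resTens f hE τ (fun n => ?_) hK
  · exact (hz K).of_iso (asIso (τ.app K)).symm
  · refine (hz _).isIso ?_ _
    obtain ⟨hs, -⟩ := (isTriang_Lpull f).comp ((isTriang_LTX_obj E).comp (isTriang_Rpush f))
    have h0' : IsZero ((DCoh.Lpull f ⋙ (LTX X).obj E ⋙ DCoh.Rpush f).obj
        ((DerivedCategory.singleFunctor Y.Modules 0).obj (Coh.structureModule Y))) := by
      obtain ⟨e⟩ := nonempty_unit' E
      exact h0.of_iso ((DCoh.Rpush f).mapIso (((LTX X).obj E).mapIso (lpullO f) ≪≫ e))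
    exact ((shiftFunctor _ n).map_isZero h0').of_iso
      (((DCoh.Lpull f ⋙ (LTX X).obj E ⋙ DCoh.Rpush f).commShiftIso n).app _)

end zero

end K266.PerfUnit
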