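import Groth.Agent.Dual3.K478.TorBC
import Groth.Agent.Dcoh.LocalFree
import Groth.Agent.PerfA.QCohEpi
import Groth.Agent.Krr.H446.BlowDesc
import Groth.Agent.Krr.H471.PushPerf
import Groth.Agent.Krr.H473.LpullFlatMod
import Groth.Agent.Dual.H356.TensX
import Groth.Agent.SGA6.K266.PerfUnit

/-!
# Direct images and Tor-independent base change

For a Tor-independent cartesian square with `f` quasi-compact and quasi-separated and `F` a vector bundle with
`R^q f_* F = 0` for `q ≥ 1`: `R^q f'_* (g'^* F) = 0` for `q ≥ 1`; and if `f_* O_X ≅ O_Y` (and `R^q f_* O_X = 0`)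
then `f'_* O_{X'} ≅ O_{Y'}`.
-/

set_option autoImplicit false
universe u

open CategoryTheory CategoryTheory.Limits AlgebraicGeometry
attribute [local instance] HasDerivedCategory.standard

namespace K266.BcPush

open K478.TorBC Groth.Agent Groth.Agent.Dcoh.DerPull Groth.Agent.Krr.H471.PushPerf

attribute [local instance] Groth.Agent.PerfB.BCSch.hasLpull Groth.Agent.Dcoh.DerSch.hasRpush

variable {X Y X' Y' : Scheme.{u}} (f : X ⟶ Y) [QuasiCompact f] [QuasiSeparated f] (g : Y' ⟶ Y) (f' : X' ⟶ Y')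
  (g' : X' ⟶ X)

/-- Base change for a vector bundle. -/
theorem nonempty_iso (sq : IsPullback g' f' f g) (htor : TorIndep f g) (F : X.Modules)
    (hF : FlatMod.IsFinLocFree F) :
    Nonempty ((DCoh.Lpull g).obj ((DCoh.Rpush f).obj (DCoh.inD X F)) ≅
      (DCoh.Rpush f').obj (DCoh.inD X' ((Scheme.Modules.pullback g').obj F))) := by
  obtain ⟨e, he⟩ := exists_iso f g f' g' sq htor (lpullAdj g) (lpullAdj g')
  have hq : DCoh.IsQCohD (DCoh.inD X F) := PerfA.QCohD.isQCohD_inD _ (PerfA.QCohEpi.isQCoh_of_isFinLocFree hF)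
  have := he _ hq
  obtain ⟨i⟩ := Krr.H473.LpullFlatMod.nonempty_lpull_inD g' F hF
  exact ⟨asIso (DCoh.baseChangeApp (lpullAdj g) (lpullAdj g') e (DCoh.inD X F)) ≪≫
    (DCoh.Rpush f').mapIso i⟩

omit [QuasiCompact f] [QuasiSeparated f] in
theorem isLE_Rpush [HasInjectiveResolutions X.Modules] {F : X.Modules}
    (h : ∀ q : ℕ, 1 ≤ q → IsZero ((Coh.Rpush f q).obj F)) : ((DCoh.Rpush f).obj (DCoh.inD X F)).IsLE 0 := by
  rw [DerivedCategory.isLE_iff]
  intro i hi
  obtain ⟨n, rfl⟩ := Int.eq_ofNat_of_zero_le (by omega : 0 ≤ i)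
  exact (h n (by omega)).of_iso (PerfC.RpushSingle.iso f n F)

/-- `R^q f'_* (g'^* F) = 0` for `q ≥ 1`. -/
theorem isZero_push (sq : IsPullback g' f' f g) (htor : TorIndep f g) (F : X.Modules)
    (hF : FlatMod.IsFinLocFree F) (h : ∀ q : ℕ, 1 ≤ q → IsZero ((Coh.RpushAb f q).obj (Coh.toAb F)))
    (q : ℕ) (hq : 1 ≤ q) : IsZero ((Coh.RpushAb f' q).obj (Coh.toAb ((Scheme.Modules.pullback g').obj F))) := by
  have := Dcoh.DerSch.hasInjectiveResolutions X
  have := Dcoh.DerSch.hasInjectiveResolutions X'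
  have h1 : ((DCoh.Rpush f).obj (DCoh.inD X F)).IsLE 0 :=
    isLE_Rpush f fun q hq => (Krr.H446.BlowDesc.van_iff_rpush f q F).1 (h q hq)
  have h2 := Dual.H356.TensX.isLE_lpull (f := g) _ 0 h1
  obtain ⟨e⟩ := nonempty_iso f g f' g' sq htor F hF
  refine (Krr.H446.BlowDesc.van_iff_rpush f' q _).2 ?_
  refine IsZero.of_iso ?_ (PerfC.RpushSingle.iso f' q _).symm
  have h3 : ((DCoh.Rpush f').obj (DCoh.inD X' ((Scheme.Modules.pullback g').obj F))).IsLE 0 :=
    (DerivedCategory.TStructure.t.isLE_of_iso e 0 : _)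
  exact DerivedCategory.isZero_of_isLE _ 0 q (by omega)

/-- `f'_* O_{X'} ≅ O_{Y'}`. -/
theorem nonempty_push_structure (sq : IsPullback g' f' f g) (htor : TorIndep f g)
    (h : ∀ q : ℕ, 1 ≤ q → IsZero ((Coh.RpushAb f q).obj (Coh.toAb (Coh.structureModule X))))
    (e : (Scheme.Modules.pushforward f).obj (Coh.structureModule X) ≅ Coh.structureModule Y) :
    Nonempty ((Scheme.Modules.pushforward f').obj (Coh.structureModule X') ≅ Coh.structureModule Y') := by
  have := Dcoh.DerSch.hasInjectiveResolutions X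
  have := Dcoh.DerSch.hasInjectiveResolutions X'
  have hO : FlatMod.IsFinLocFree (Coh.structureModule X) :=
    Dcoh.LocalFree.isFinLocFree_structureModule
  obtain ⟨i1⟩ := nonempty_Rpush_inD f fun q hq => (Krr.H446.BlowDesc.van_iff_rpush f q _).1 (h q hq)
  obtain ⟨i2⟩ := nonempty_iso f g f' g' sq htor (Coh.structureModule X) hO
  obtain ⟨i3⟩ := Krr.H473.LpullFlatMod.nonempty_lpull_inD g' _ hO
  let i4 : (DCoh.Rpush f').obj (DCoh.inD X' (Coh.structureModule X')) ≅ DCoh.inD Y' (Coh.structureModule Y') :=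
    (DCoh.Rpush f').mapIso ((PerfUnit.lpullO g').symm ≪≫ i3) ≪≫ i2.symm ≪≫
      (DCoh.Lpull g).mapIso (i1 ≪≫ (DerivedCategory.singleFunctor Y.Modules 0).mapIso e) ≪≫ PerfUnit.lpullO g
  exact ⟨((rpushZero f').app _).symm ≪≫ (PerfC.RpushSingle.iso f' 0 _).symm ≪≫
    (DerivedCategory.homologyFunctor Y'.Modules 0).mapIso i4 ≪≫
      (DerivedCategory.singleFunctorCompHomologyFunctorIso Y'.Modules 0).app _⟩

end K266.BcPush
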