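import Groth.Agent.SGA6.K266.TorCharts
import Groth.Agent.S8938
import Groth.Agent.S3196
import Groth.Agent.Sga67.BlowCover

/-!
# Tor-independence of the blow-up of a Koszul-regular ideal and a base change preserving Koszul-regularity
-/

set_option autoImplicit false
universe u

open CategoryTheory CategoryTheory.Limits AlgebraicGeometry TensorProduct

namespace K266.TorBlow

open K478.TorBC K266.TorCharts Groth.Agent.Divis Groth.Agent.Divis.BlowChart

theorem ofList_eq {A : Type u} [CommRing A] (rs : List A) : Ideal.ofList rs = Ideal.span {x | x ∈ rs} := rfl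

theorem subsingleton_tor_toModule {A B N : Type u} [CommRing A] [CommRing B] [Algebra A B] [AddCommGroup N]
    [Module A N] (i : ℕ) (h : Subsingleton (DRing.Tor A i B N)) :
    Subsingleton (@DRing.Tor A _ i B N _ (algebraMap A B).toModule _ _) := by
  have h1 : (Algebra.toModule : Module A B) = (algebraMap A B).toModule :=
    Module.ext' _ _ fun r m => Algebra.smul_def r m
  rw [← h1]
  exact h

/-- The chart algebras of the blow-up. -/
theorem torVan_chart {A₀ A' : CommRingCat.{u}} (α : A₀ ⟶ A') (rs : List A₀) (h : LCI.IsKoszulRegularSeq A₀ rs)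
    (h' : LCI.IsKoszulRegularSeq A' (rs.map α.hom)) (a : A₀) (ha : a ∈ Ideal.ofList rs) :
    TorVan (CommRingCat.ofHom (algebraMap A₀ (BlowUp.affineAlgebra A₀ (Ideal.ofList rs) a))) α := by
  intro i hi
  let _ := α.hom.toAlgebra
  have key : Subsingleton (DRing.Tor A₀ i (BlowUp.affineAlgebra A₀ (Ideal.ofList rs) a) A') := by
    refine ⟨fun y z => ?_⟩
    have h0 : ∀ y : DRing.Tor A₀ i (BlowUp.affineAlgebra A₀ (Ideal.ofList rs) a) A', y = 0 := by
      intro y
      obtain ⟨n, f, y', rfl⟩ := Groth.Agent.S8938.exists_rep (Ideal.ofList rs) a ha A' i y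
      have h1 := (Groth.Agent.S3196.result A₀ A' rs h h' n i hi).1
      have h2 : Subsingleton (DRing.Tor A₀ i ↥(Ideal.ofList rs ^ n) A') :=
        ModuleCat.subsingleton_of_isZero h1
      rw [Subsingleton.elim y' 0, map_zero]
    rw [h0 y, h0 z]
  exact subsingleton_tor_toModule i key

/-- Tor-independence of the blow-up. -/
theorem torIndep_blow {X' : Scheme.{u}} {A₀ A' : CommRingCat.{u}} (α : A₀ ⟶ A') (rs : List A₀)
    (h : LCI.IsKoszulRegularSeq A₀ rs) (h' : LCI.IsKoszulRegularSeq A' (rs.map α.hom))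
    (b : X' ⟶ Spec A₀) (hb : BlowUp.IsBlowUp b (idl (A := A₀) (Ideal.ofList rs))) :
    TorIndep b (Spec.map α) := by
  refine torIndep_of_charts b α fun x => ?_
  obtain ⟨a, haS, hxa⟩ := Groth.Agent.Sga67.BlowCover.exists_mem_chartLocus_of_span (A := A₀) (Ideal.ofList rs)
    b hb.1 (ofList_eq rs) x
  have haI : a ∈ Ideal.ofList rs := Ideal.subset_span haS
  obtain ⟨e, he⟩ := BlowChart.exists_iso (A := A₀) (Ideal.ofList rs) b hb haI
  refine ⟨CommRingCat.of (BlowUp.affineAlgebra A₀ (Ideal.ofList rs) a),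
    CommRingCat.ofHom (algebraMap A₀ (BlowUp.affineAlgebra A₀ (Ideal.ofList rs) a)),
    e.inv ≫ (chartLocus (Ideal.ofList rs) b a).ι, inferInstance, ?_, ?_, torVan_chart α rs h h' a haI⟩
  · let z : (chartLocus (Ideal.ofList rs) b a : Scheme.{u}) := ⟨x, hxa⟩
    refine ⟨e.hom z, ?_⟩
    rw [Scheme.Hom.comp_apply]
    have : e.inv (e.hom z) = z := by
      rw [← Scheme.Hom.comp_apply, e.hom_inv_id]; rfl
    rw [this]
    rfl
  · rw [Category.assoc, ← he, Iso.inv_hom_id_assoc]

end K266.TorBlow
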