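import Groth.Agent.SGA6.K266.UnivBlow
import Groth.Agent.SGA6.K266.TorBlow
import Groth.Agent.SGA6.K266.BcPush
import Groth.Agent.QuotLF.K821.BlowTensor
import Groth.Agent.Dix.IdealModCartier
import Groth.Agent.Divis.IdealComap

/-!
# The blow-up of a Koszul-regular ideal over an affine base

`b : X' ⟶ Spec A` the blow-up of an ideal `I` generated by a Koszul-regular sequence of length `≥ 1`: by base change
from the blow-up of affine space along the origin, `R^q b_* (J'^n) = 0` for `n ≥ 0`, `q ≥ 1` and `b_* O_{X'} ≅ O`.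
-/

set_option autoImplicit false
universe u

open CategoryTheory CategoryTheory.Limits AlgebraicGeometry BlowUp

namespace K266.BlowAffK

open Groth.Agent Groth.Agent.Divis Groth.Agent.Divis.BlowChart Groth.Agent.Divis.EffCartier K478.TorBC

section BC

variable {A A' : Type u} [CommRing A] [CommRing A'] [Algebra A A']

/-- The structure morphism of the base change. -/
noncomputable abbrev gm (A A' : Type u) [CommRing A] [CommRing A'] [Algebra A A'] :
    Spec (CommRingCat.of A') ⟶ Spec (CommRingCat.of A) :=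
  Spec.map (CommRingCat.ofHom (algebraMap A A'))

theorem isEff_baseChange (l : List A) (hl : LCI.IsKoszulRegularSeq A l)
    (hl' : LCI.IsKoszulRegularSeq A' (l.map (algebraMap A A'))) {B : Scheme.{u}} (b : B ⟶ Spec (CommRingCat.of A))
    (hb : IsBlowUp b (idl (Ideal.ofList l))) :
    IsEffCartierIdeal ((idl (Ideal.ofList l)).comap (pullback.fst b (gm A A') ≫ b)) := by
  refine isEff_of_forall_comap fun p => ?_
  obtain ⟨a, haS, hpa⟩ := Sga67.BlowCover.exists_mem_chartLocus_of_span (Ideal.ofList l) b hb.1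
    (TorBlow.ofList_eq l) (pullback.fst b (gm A A') p)
  have ha : a ∈ l := haS
  have haI : a ∈ Ideal.ofList l := Ideal.subset_span haS
  obtain ⟨e, he⟩ := BlowChart.exists_iso (Ideal.ofList l) b hb haI
  let c : Spec (CommRingCat.of (affineAlgebra A (Ideal.ofList l) a)) ⟶ B := e.inv ≫ (chartLocus (Ideal.ofList l) b a).ι
  have hc : IsOpenImmersion c := inferInstance
  have hcb : c ≫ b = chartMap (Ideal.ofList l) a := by
    rw [Category.assoc, ← he, Iso.inv_hom_id_assoc]
  let m := pullback.map (chartMap (Ideal.ofList l) a) (gm A A') b (gm A A') c (𝟙 _) (𝟙 _)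
    (by rw [Category.comp_id, hcb]) (by rw [Category.comp_id, Category.id_comp])
  have hm : IsOpenImmersion m := inferInstance
  refine ⟨_, m, hm, ?_, ?_⟩
  · rw [Scheme.Pullback.range_map]
    let z : (chartLocus (Ideal.ofList l) b a : Scheme.{u}) := ⟨pullback.fst b (gm A A') p, hpa⟩
    refine ⟨⟨e.hom z, ?_⟩, ?_⟩
    · rw [Scheme.Hom.comp_apply]
      have : e.inv (e.hom z) = z := by
        rw [← Scheme.Hom.comp_apply, e.hom_inv_id]; rfl
      rw [this]
      rfl
    · exact ⟨_, rfl⟩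
  · have h2 : m ≫ pullback.fst b (gm A A') = pullback.fst _ _ ≫ c := pullback.lift_fst _ _ _
    have h1 : m ≫ pullback.fst b (gm A A') ≫ b = pullback.fst _ _ ≫ chartMap (Ideal.ofList l) a := by
      rw [reassoc_of% h2, hcb]
    rw [← Scheme.IdealSheafData.comap_comp, h1]
    exact K821.BlowTensor.isEff_chart l hl hl' a ha

/-- Base change of the blow-up of a Koszul-regular ideal. -/
theorem isBlowUp_baseChange (l : List A) (hl : LCI.IsKoszulRegularSeq A l)
    (hl' : LCI.IsKoszulRegularSeq A' (l.map (algebraMap A A'))) {B : Scheme.{u}} (b : B ⟶ Spec (CommRingCat.of A))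
    (hb : IsBlowUp b (idl (Ideal.ofList l))) :
    IsBlowUp (pullback.snd b (gm A A')) ((idl (Ideal.ofList l)).comap (gm A A')) := by
  constructor
  · rw [← Scheme.IdealSheafData.comap_comp, ← pullback.condition]
    exact isEff_baseChange l hl hl' b hb
  · intro Y h hY
    rw [← Scheme.IdealSheafData.comap_comp] at hY
    obtain ⟨k, hk, huniq⟩ := hb.2 Y (h ≫ gm A A') hY
    refine ⟨pullback.lift k h hk, pullback.lift_snd _ _ _, fun l hl ↦ ?_⟩
    apply pullback.hom_ext
    · rw [pullback.lift_fst]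
      apply huniq
      simp only [Category.assoc]
      rw [pullback.condition, reassoc_of% hl]
    · rw [pullback.lift_snd]
      exact hl

end BC

section Main

variable {A : Type u} [CommRing A] (r : ℕ) (a : Fin (r + 1) → A)

/-- The coordinate map `ℤ[T_0, …, T_r] → A`. -/
noncomputable def coord : UnivBlow.P (ULift.{u} ℤ) r →+* A :=
  MvPolynomial.eval₂Hom ((Int.castRingHom A).comp (ULift.ringEquiv : ULift.{u} ℤ ≃+* ℤ).toRingHom) a

theorem map_vars : (UnivBlow.vars (ULift.{u} ℤ) r).map (coord r a) = List.ofFn a := by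
  rw [UnivBlow.vars, List.map_ofFn]
  congr 1
  funext i
  simp [coord]

theorem isKoszul_vars (R : Type u) [CommRing R] : LCI.IsKoszulRegularSeq (UnivBlow.P R r) (UnivBlow.vars R r) :=
  Flat2H.KoszulBC.isKoszulRegularSeq_of_isWeaklyRegular (Flat2H.SmoothSection.isWeaklyRegular_X (R := R) (r + 1))

/-- The blow-up of `Spec A` as a base change of the blow-up of affine space. -/
theorem exists_square (ha : LCI.IsKoszulRegularSeq A (List.ofFn a)) {X' : Scheme.{u}}
    (b : X' ⟶ Spec (CommRingCat.of A)) (hb : IsBlowUp b (idl (Ideal.ofList (List.ofFn a)))) :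
    ∃ (X₀ : Scheme.{u}) (b₀ : X₀ ⟶ Spec (CommRingCat.of (UnivBlow.P (ULift.{u} ℤ) r))) (g' : X' ⟶ X₀),
      IsBlowUp b₀ (idl (UnivBlow.J₀ (ULift.{u} ℤ) r)) ∧
      IsPullback g' b b₀ (Spec.map (CommRingCat.ofHom (coord r a))) ∧
      TorIndep b₀ (Spec.map (CommRingCat.ofHom (coord r a))) := by
  obtain ⟨X₀, b₀, hb₀⟩ := Flat2C.BlowExist.exists_isBlowUp (idl (UnivBlow.J₀ (ULift.{u} ℤ) r))
  let _ := (coord r a).toAlgebra
  have hl := isKoszul_vars r (ULift.{u} ℤ)
  have hl' : LCI.IsKoszulRegularSeq A ((UnivBlow.vars (ULift.{u} ℤ) r).map (coord r a)) := by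
    rw [map_vars]
    exact ha
  have h1 := isBlowUp_baseChange (A' := A) _ hl hl' b₀ hb₀
  have h2 : (idl (Ideal.ofList (UnivBlow.vars (ULift.{u} ℤ) r))).comap
      (gm (UnivBlow.P (ULift.{u} ℤ) r) A) = idl (Ideal.ofList (List.ofFn a)) := by
    rw [Flat2C.EtaleCentre.comap_idl_specMap, Ideal.map_ofList]
    congr 2
    exact map_vars r a
  rw [h2] at h1
  obtain ⟨e, he⟩ := BlowUpFormal.exists_iso_of_isBlowUp hb h1
  refine ⟨X₀, b₀, e.hom ≫ pullback.fst b₀ (gm (UnivBlow.P (ULift.{u} ℤ) r) A), hb₀, ?_, ?_⟩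
  · exact (IsPullback.of_hasPullback b₀ (gm (UnivBlow.P (ULift.{u} ℤ) r) A)).of_iso e.symm (Iso.refl _) (Iso.refl _)
      (Iso.refl _) (by simp) (by rw [← he]; simp) (by simp) (by simp)
  · exact TorBlow.torIndep_blow (CommRingCat.ofHom (coord r a)) _ hl hl' b₀ hb₀

/-- **The blow-up of a Koszul-regular ideal over an affine base.** -/
theorem main (ha : LCI.IsKoszulRegularSeq A (List.ofFn a)) {X' : Scheme.{u}}
    (b : X' ⟶ Spec (CommRingCat.of A)) (hb : IsBlowUp b (idl (Ideal.ofList (List.ofFn a)))) :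
    (∀ n q : ℕ, 1 ≤ q → IsZero ((Coh.RpushAb b q).obj
      (Coh.toAb (ClSub.idealMod (((idl (Ideal.ofList (List.ofFn a))).comap b) ^ n))))) ∧
    Nonempty ((Scheme.Modules.pushforward b).obj (Coh.structureModule X') ≅
      Coh.structureModule (Spec (CommRingCat.of A))) := by
  obtain ⟨X₀, b₀, g', hb₀, hsq, htor⟩ := exists_square r a ha b hb
  have : IsDomain (ULift.{u} ℤ) := (ULift.ringEquiv : ULift.{u} ℤ ≃+* ℤ).toMulEquiv.isDomain ℤ
  obtain ⟨hprop, hvan, ⟨e⟩⟩ := UnivBlow.univ (ULift.{u} ℤ) r b₀ hb₀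
  have h0 : ∀ q : ℕ, 1 ≤ q → IsZero ((Coh.RpushAb b₀ q).obj (Coh.toAb (Coh.structureModule X₀))) := by
    intro q hq
    obtain ⟨i⟩ := Sga2.ThickCoh.idealMod_pow hb₀.1 0
    exact (hvan 0 q hq).of_iso ((Coh.RpushAb b₀ q).mapIso ((SheafOfModules.toSheaf _).mapIso i))
  refine ⟨fun n q hq => ?_, BcPush.nonempty_push_structure b₀ _ b g' hsq htor h0 e⟩
  have hcomap : (((idl (UnivBlow.J₀ (ULift.{u} ℤ) r)).comap b₀) ^ n).comap g' =
      ((idl (Ideal.ofList (List.ofFn a))).comap b) ^ n := by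
    rw [IdealComap.comap_pow, ← Scheme.IdealSheafData.comap_comp, hsq.w, Scheme.IdealSheafData.comap_comp,
      Flat2C.EtaleCentre.comap_idl_specMap, UnivBlow.J₀, Ideal.map_ofList, map_vars]
  have hE := isEff_pow hb₀.1 n
  have hE' : IsEffCartierIdeal ((((idl (UnivBlow.J₀ (ULift.{u} ℤ) r)).comap b₀) ^ n).comap g') := by
    rw [hcomap]
    exact isEff_pow hb.1 n
  obtain ⟨i⟩ := Dix.IdealModCartier.pullback_idealMod g' hE hE'
  rw [hcomap] at i
  have h := BcPush.isZero_push b₀ _ b g' hsq htor _ (Ega2.QCohLocal.isFinLocFree_of_rank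
    (Ega2.QCohLocal.isFinLocFreeOfRank_one_iff.2 (Ega1.IdealGen.isInvertible_idealMod _ hE)))
    (fun q hq => hvan n q hq) q hq
  exact h.of_iso ((Coh.RpushAb b q).mapIso ((SheafOfModules.toSheaf _).mapIso i.symm))

end Main

end K266.BlowAffK
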