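import Groth.Agent.LambdaRing.K537.MvSpecial
import Groth.Agent.LambdaRing.K536.Basic

/-!
# Specialness from line elements

`Λ ≤ K` a submonoid of rank one elements (`λ^j u = 0` for `j ≥ 2`) in a pre-λ-ring `K`. The identities of a special
λ-ring hold for elements of the subring generated additively by `Λ`: it is the image of a special λ-ring
(`MvPolynomial Λ ℤ`) by a λ-homomorphism.

`isSpecial_of_split`: `K` is special if any two elements become such combinations in a pre-λ-ring containing `K`.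
-/

set_option autoImplicit false
universe u v w

open LambdaRing

namespace K266.LamLine

open Groth.Agent.Books.Lambda1 K536.Basic K537.BinSeries K537.MvLine K537.MvSpecial MvPolynomial

section

variable {K : Type v} [CommRing K] [LambdaOps K] (Λ : Submonoid K)

/-- The ring map `1 + X_u ↦ u`. -/
noncomputable def φ : MvPolynomial Λ ℤ →+* K :=
  (MvPolynomial.aeval (fun u : Λ => (u : K) - 1) : MvPolynomial Λ ℤ →ₐ[ℤ] K).toRingHom

omit [LambdaOps K] in
lemma φ_X (u : Λ) : φ Λ (X u) = (u : K) - 1 := by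
  simp [φ]

omit [LambdaOps K] in
lemma φ_L (m : Λ →₀ ℕ) : φ Λ (L m) ∈ Λ := by
  rw [L_eq_prod, Finsupp.prod, map_prod]
  refine prod_mem fun u _ => ?_
  rw [map_pow, map_add, map_one, φ_X, add_sub_cancel]
  exact Λ.pow_mem u.2 _

attribute [local instance] opsMv

variable (hΛ : ∀ u ∈ Λ, RankOne u)

include hΛ in
lemma good_top (x : MvPolynomial Λ ℤ) (n : ℕ) :
    φ Λ (LambdaOps.lam n x) = LambdaOps.lam n (φ Λ x) := by
  revert n
  rw [← mem_good]
  refine induction_L (P := fun f => f ∈ good (φ Λ)) (zero_mem _) (fun x y hx hy => add_mem hx hy) ?_ x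
  intro c m
  refine zsmul_mem ?_ c
  rw [mem_good_iff_series, lamSeries_L, lamSeries_rankOne (hΛ _ (φ_L Λ m))]
  simp

omit [LambdaOps K] in
lemma exists_lift {x : K} (hx : x ∈ AddSubgroup.closure (Λ : Set K)) : ∃ y, φ Λ y = x := by
  induction hx using AddSubgroup.closure_induction with
  | mem u hu => exact ⟨1 + X ⟨u, hu⟩, by rw [map_add, map_one, φ_X, add_sub_cancel]⟩
  | zero => exact ⟨0, map_zero _⟩
  | add x y _ _ hx hy =>
    obtain ⟨a, rfl⟩ := hx
    obtain ⟨b, rfl⟩ := hy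
    exact ⟨a + b, map_add _ _ _⟩
  | neg x _ hx =>
    obtain ⟨a, rfl⟩ := hx
    exact ⟨-a, map_neg _ _⟩

lemma map_aeval_int {R : Type*} {S : Type*} [CommRing R] [CommRing S] {σ : Type*} (f : R →+* S) (v : σ → R)
    (P : MvPolynomial σ ℤ) : f (MvPolynomial.aeval v P) = MvPolynomial.aeval (fun k => f (v k)) P := by
  induction P using MvPolynomial.induction_on with
  | C a => simp
  | add p q hp hq => rw [map_add, map_add, map_add, hp, hq]
  | mul_X p i hp => rw [map_mul, map_mul, map_mul, hp, MvPolynomial.aeval_X, MvPolynomial.aeval_X]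

include hΛ

theorem lam_mul_of {x y : K} (hx : x ∈ AddSubgroup.closure (Λ : Set K))
    (hy : y ∈ AddSubgroup.closure (Λ : Set K)) (n : ℕ) (P : MvPolynomial (Fin n ⊕ Fin n) ℤ) (hP : IsMulPoly n P) :
    LambdaOps.lam n (x * y) =
      aeval (Sum.elim (fun k : Fin n => LambdaOps.lam ((k : ℕ) + 1) x)
        (fun k : Fin n => LambdaOps.lam ((k : ℕ) + 1) y)) P := by
  obtain ⟨a, rfl⟩ := exists_lift Λ hx
  obtain ⟨b, rfl⟩ := exists_lift Λ hy
  rw [← map_mul, ← good_top Λ hΛ, (isSpecial_mv Λ ℤ).lam_mul n P hP, map_aeval_int]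
  congr 2
  funext k
  rcases k with k | k
  · simp only [Sum.elim_inl, good_top Λ hΛ]
  · simp only [Sum.elim_inr, good_top Λ hΛ]

theorem lam_lam_of {x : K} (hx : x ∈ AddSubgroup.closure (Λ : Set K)) (i j : ℕ)
    (Q : MvPolynomial (Fin (i * j)) ℤ) (hQ : IsCompPoly i j Q) :
    LambdaOps.lam j (LambdaOps.lam i x) =
      aeval (fun k : Fin (i * j) => LambdaOps.lam ((k : ℕ) + 1) x) Q := by
  obtain ⟨a, rfl⟩ := exists_lift Λ hx
  rw [← good_top Λ hΛ, ← good_top Λ hΛ, (isSpecial_mv Λ ℤ).lam_lam i j Q hQ, map_aeval_int]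
  congr 2
  funext k
  rw [good_top Λ hΛ]

end

/-- Specialness from splittings. -/
theorem isSpecial_of_split {K : Type v} [CommRing K] [LambdaOps K]
    (h : ∀ x y : K, ∃ (K' : Type w) (_ : CommRing K') (_ : LambdaOps K') (f : K →+* K') (Λ : Submonoid K'),
      Function.Injective f ∧ (∀ (n : ℕ) (z : K), f (LambdaOps.lam n z) = LambdaOps.lam n (f z)) ∧
      (∀ u ∈ Λ, RankOne u) ∧ f x ∈ AddSubgroup.closure (Λ : Set K') ∧ f y ∈ AddSubgroup.closure (Λ : Set K')) :
    IsSpecial K := by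
  refine ⟨fun n hn => ?_, fun n P hP x y => ?_, fun i j Q hQ x => ?_⟩
  · obtain ⟨K', _, _, f, Λ, hinj, hf, hΛ, -, -⟩ := h 0 0
    apply hinj
    rw [hf, map_one, map_zero]
    exact hΛ 1 Λ.one_mem n hn
  · obtain ⟨K', _, _, f, Λ, hinj, hf, hΛ, hx, hy⟩ := h x y
    apply hinj
    rw [hf, map_mul, lam_mul_of Λ hΛ hx hy n P hP, map_aeval_int]
    congr 2
    funext k
    rcases k with k | k
    · simp only [Sum.elim_inl, hf]
    · simp only [Sum.elim_inr, hf]
  · obtain ⟨K', _, _, f, Λ, hinj, hf, hΛ, hx, -⟩ := h x 0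
    apply hinj
    rw [hf, hf, lam_lam_of Λ hΛ hx i j Q hQ, map_aeval_int]
    congr 2
    funext k
    rw [hf]

end K266.LamLine
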