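import Groth.Agent.SGA6.K266.PBFinal
import Groth.Agent.SGA6.K266.LamLine
import Groth.Agent.Krr.H495.Model
import Groth.Agent.Krr.H482.PullFinal
import Groth.Agent.Krr.H487.KerRank
import Groth.Agent.Krr.H490.PBExist
import Groth.Agent.Krr.H483.PBTop
import Groth.Agent.Dcoh.PushRestrict

/-!
# Splitting of vector bundles over a quasi-compact base, and specialness of `K₀`

* `pull_lam`: the pull-back on `KR` commutes with the λ-operations.
* `line X`: the submonoid of classes of bundles of rank at most one; its elements are of rank one.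
* `exists_split`: for finitely many bundles over a quasi-compact `X` there is `f : X' ⟶ X`, `X'` quasi-compact, with
  `pull f` injective, splitting them.
* `isSpecial`: `KR X` is a special λ-ring for `X` quasi-compact.
-/

set_option autoImplicit false

universe u v w

open CategoryTheory CategoryTheory.Limits AlgebraicGeometry Finset TopologicalSpace

namespace K266.SplitVb

open Groth.Agent Groth.Agent.Sga67.KvbRing K266.KRing K266.PBRing Groth.Agent.Krr.H495
open Groth.Agent.Krr.H482.PullLambda Groth.Agent.Krr.H482.LamAlg Groth.Agent.Sga67.LocBasis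
open Groth.Agent.Sga67.Sec Groth.Agent.Sga67.TensorOps

variable {X Y Z : Scheme.{u}}



theorem lam_κ (i : ℕ) {E L : X.Modules} (hE : FlatMod.IsFinLocFree E) (hL : ExtPow.IsExtPow i E L) :
    LambdaRing.LambdaOps.lam i (κ E) = κ L := Model.lam_toKR X i E L hE hL

theorem commAt_pull (f : X ⟶ Y) (x : KR Y) : CommAt (pull f) x := by
  refine induction (C := fun x => CommAt (pull f) x) (fun E hE i => ?_) (fun a b ha hb => ha.sub hb) x
  obtain ⟨L, hL, hL'⟩ := Model.hext Y i E hE
  rw [lam_κ i hE hL', pull_κ f hL, pull_κ f hE, lam_κ i (isFinLocFree_pullback f hE)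
    (Krr.H482.PullFinal.isExtPow_pullback f hE hL')]

theorem pull_lam (f : X ⟶ Y) (n : ℕ) (x : KR Y) :
    pull f (LambdaRing.LambdaOps.lam n x) = LambdaRing.LambdaOps.lam n (pull f x) := commAt_pull f x n

theorem pull_comp (f : X ⟶ Y) (g : Y ⟶ Z) (x : KR Z) : pull (f ≫ g) x = pull f (pull g x) := by
  refine induction (C := fun x => pull (f ≫ g) x = pull f (pull g x)) (fun E hE => ?_)
    (fun a b ha hb => by rw [map_sub, map_sub, map_sub, ha, hb]) x
  rw [pull_κ _ hE, pull_κ _ hE, pull_κ _ (isFinLocFree_pullback g hE)]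
  exact (κ_iso ((Scheme.Modules.pullbackComp f g).app E)
    (isFinLocFree_pullback f (isFinLocFree_pullback g hE))).symm

theorem pull_id (x : KR X) : pull (𝟙 X) x = x := by
  refine induction (C := fun x => pull (𝟙 X) x = x) (fun E hE => ?_)
    (fun a b ha hb => by rw [map_sub, ha, hb]) x
  rw [pull_κ _ hE]
  exact κ_iso ((Scheme.Modules.pullbackId X).app E) (isFinLocFree_pullback (𝟙 X) hE)

/-! ### Rank -/

theorem rk_pull (f : X ⟶ Y) {E : Y.Modules} (hE : FlatMod.IsFinLocFree E) (x : X) :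
    Rank.rk ((Scheme.Modules.pullback f).obj E) x = Rank.rk E (f x) := by
  obtain ⟨V, hV, b⟩ := Rank.exists_isLocBasis hE (f x)
  obtain ⟨e⟩ := nonempty_restrict_iso_iff.2 b
  have h1 : Nonempty (((Scheme.Modules.pullback f).obj E).restrict (f ⁻¹ᵁ V).ι ≅
      FlatMod.freeMod (f ⁻¹ᵁ V) (Rank.rk E (f x))) :=
    ⟨(PerfB.FlatPull.pullbackRestrict f V).app E ≪≫
    (Scheme.Modules.pullback (f ∣_ V)).mapIso e ≪≫ PerfB.FlatPull.pullbackFreeMod _ _⟩
  obtain ⟨b', hb'⟩ := nonempty_restrict_iso_iff.1 h1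
  rw [Rank.rk_eq_of_isLocBasis hb' (show x ∈ f ⁻¹ᵁ V from hV), Fintype.card_fin]

/-! ### Line elements -/

/-- The submonoid of classes of bundles of rank at most one. -/
noncomputable def line (X : Scheme.{u}) : Submonoid (KR X) where
  carrier := {x | ∃ L : X.Modules, FlatMod.IsFinLocFree L ∧ (∀ p, Rank.rk L p ≤ 1) ∧ κ L = x}
  one_mem' := ⟨Coh.structureModule X, isFinLocFree_structureModule, fun p => (Rank.rk_structureModule p).le, κ_one⟩
  mul_mem' := by
    rintro _ _ ⟨L, hL, hr, rfl⟩ ⟨M, hM, hs, rfl⟩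
    refine ⟨CohB1.tensorMod L M, isFinLocFree_tensorMod hL hM, fun p => ?_, κ_tensor hL hM⟩
    rw [Rank.rk_tensor hL hM]
    exact Nat.mul_le_mul (hr p) (hs p)

theorem rankOne_line {x : KR X} (hx : x ∈ line X) : K536.Basic.RankOne x := by
  obtain ⟨L, hL, hr, rfl⟩ := hx
  intro j hj
  obtain ⟨M, hM, hM'⟩ := Model.hext X j L hL
  rw [lam_κ j hL hM']
  refine κ_isZero (Rank.isZero_of_rank_zero (Rank.isFinLocFreeOfRank_iff.2 ⟨hM, fun p => ?_⟩))
  rw [Rank.rk_extPow hL hM']
  exact Nat.choose_eq_zero_of_lt ((hr p).trans_lt (by omega))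

theorem pull_line (f : X ⟶ Y) {x : KR Y} (hx : x ∈ line Y) : pull f x ∈ line X := by
  obtain ⟨L, hL, hr, rfl⟩ := hx
  refine ⟨_, isFinLocFree_pullback f hL, fun p => ?_, (pull_κ f hL).symm⟩
  rw [rk_pull f hL]
  exact hr _

/-- The additive span of the line elements. -/
noncomputable def S (X : Scheme.{u}) : AddSubgroup (KR X) := AddSubgroup.closure (line X : Set (KR X))

theorem pull_mem (f : X ⟶ Y) {x : KR Y} (hx : x ∈ S Y) : pull f x ∈ S X := by
  have h : S Y ≤ (S X).comap (pull f).toAddMonoidHom := by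
    rw [S, AddSubgroup.closure_le]
    intro u hu
    exact AddSubgroup.subset_closure (pull_line f hu)
  exact h hx

theorem line_mem {L : X.Modules} (hL : FlatMod.IsFinLocFreeOfRank 1 L) : κ L ∈ S X :=
  AddSubgroup.subset_closure ⟨L, Rank.isFinLocFree_of_rank hL, fun p => (Rank.rk_of_rank hL p).le, rfl⟩

/-! ### Splitting bundles of constant rank -/

theorem split_rank (n : ℕ) : ∀ (X : Scheme.{u}) [CompactSpace X] (G : X.Modules), FlatMod.IsFinLocFreeOfRank n G →
    ∃ (X' : Scheme.{u}) (_ : CompactSpace X') (f : X' ⟶ X), Function.Injective (pull f) ∧ pull f (κ G) ∈ S X' := by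
  induction n with
  | zero =>
    intro X _ G hG
    refine ⟨X, inferInstance, 𝟙 X, fun a b hab => by rwa [pull_id, pull_id] at hab, ?_⟩
    rw [pull_id, κ_isZero (Rank.isZero_of_rank_zero hG)]
    exact zero_mem _
  | succ r ih =>
    intro X _ E hE
    obtain ⟨P, π, O1, q, hPB⟩ := Krr.H490.PBExist.exists_isProjBundle hE
    have hprop := Krr.H483.PBTop.isProper hE hPB
    have hP : CompactSpace P := QuasiCompact.compactSpace_of_compactSpace π
    obtain ⟨ι, hι, A, hA, h, j, hh, hsurj, hpb, hO1⟩ := Krr.H484.PBCharts.exists_charts hE hPB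
    have hO : PicF.IsInvertible O1 := Ega2.QCohLocal.isFinLocFreeOfRank_one_iff.1 hPB.invertible
    let 𝔸 : Krr.H488.Atlas.Atlas r π O1 A h := ⟨j, hpb, hsurj, hO1⟩
    have h1 := bijective 𝔸 hO (fun i => Krr.H488.Serre.serreProp r (A i))
    have hinj : Function.Injective (pull π) := by
      intro a b hab
      have h2 := @h1.1 (Pi.single 0 a) (Pi.single 0 b) (by
        simp only
        refine sum_congr rfl fun i _ => ?_
        by_cases hi : i = 0
        · subst hi
          rw [Pi.single_eq_same, Pi.single_eq_same, hab]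
        · rw [Pi.single_eq_of_ne hi, Pi.single_eq_of_ne hi])
      have h3 := congrFun h2 0
      rwa [Pi.single_eq_same, Pi.single_eq_same] at h3
    have := hPB.epi
    have hE' := isFinLocFreeOfRank_pullback π hE
    have hH : FlatMod.IsFinLocFreeOfRank r (kernel q) :=
      Krr.H487.KerRank.isFinLocFreeOfRank_kernel q hE' hPB.invertible
    obtain ⟨X', hX', f, hf, hf'⟩ := ih P (kernel q) hH
    refine ⟨X', hX', f ≫ π, fun a b hab => hinj (hf (by rwa [pull_comp, pull_comp] at hab)), ?_⟩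
    have h2 : pull π (κ E) = κ (kernel q) + κ O1 := by
      rw [pull_κ π (isFinLocFree_of_rank hE)]
      exact κ_ses (Krr.H487.KerRank.shortExact_kernel q)
        (isFinLocFree_of_rank hH) (isFinLocFree_of_rank hE') (isFinLocFree_of_rank hPB.invertible)
    rw [pull_comp, h2, map_add]
    exact add_mem hf' (pull_mem f (line_mem hPB.invertible))

/-! ### Bundles of non-constant rank -/

theorem isZero_of_subsingleton {X : Scheme.{u}} {M : X.Modules} (h : ∀ W : X.Opens, Subsingleton (Sec M W)) :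
    IsZero M := by
  rw [IsZero.iff_id_eq_zero]
  apply hom_ext_of_locally
  intro x U hx
  exact ⟨U, le_rfl, hx, fun s => (h U).elim _ _⟩

/-- The structure sheaf of a clopen subset, extended by zero. -/
theorem exists_clopen_line (U V : X.Opens) (hUV : U ⊓ V = ⊥) (hUV' : U ⊔ V = ⊤) :
    ∃ L : X.Modules, FlatMod.IsFinLocFree L ∧ (∀ x ∈ U, Rank.rk L x = 1) ∧ (∀ x ∈ V, Rank.rk L x = 0) := by
  let L : X.Modules := (Scheme.Modules.pushforward U.ι).obj (Coh.structureModule U)
  have h1 : ∃ b : Fin 1 → Sec L U, IsLocBasis b := by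
    rw [← nonempty_restrict_iso_iff]
    exact ⟨(Scheme.Modules.restrictFunctorAdjCounitIso U.ι).app _ ≪≫ Ega2.QCohLocal.freeModOneIso _⟩
  have h0 : ∃ b : Fin 0 → Sec L V, IsLocBasis b := by
    rw [← nonempty_restrict_iso_iff]
    refine ⟨IsZero.iso (isZero_of_subsingleton fun W => ?_) (Dcoh.FinLocFree.isZero_freeMod_zero _)⟩
    have h2 : U.ι ⁻¹ᵁ (V.ι ''ᵁ W) = ⊥ := by
      rw [← le_bot_iff]
      rintro ⟨x, hx⟩ ⟨y, hy, hyx⟩
      have h3 : x ∈ U ⊓ V := ⟨hx, by
        have h4 : (V.ι y : X) ∈ V := y.2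
        have h5 : V.ι y = x := hyx
        rwa [h5] at h4⟩
      rw [hUV] at h3
      exact h3
    have h4 : Subsingleton (Sec (Coh.structureModule U) (U.ι ⁻¹ᵁ (V.ι ''ᵁ W))) := by
      rw [h2]
      refine ⟨fun s t => eq_of_locally _ fun x hx => ?_⟩
      exact hx.elim
    exact h4
  refine ⟨L, ?_, fun x hx => ?_, fun x hx => ?_⟩
  · rw [isFinLocFree_iff]
    intro x
    have hx : x ∈ U ⊔ V := by rw [hUV']; trivial
    rcases hx with hx | hx
    · obtain ⟨b, hb⟩ := h1
      exact ⟨U, 1, hx, b, hb⟩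
    · obtain ⟨b, hb⟩ := h0
      exact ⟨V, 0, hx, b, hb⟩
  · obtain ⟨b, hb⟩ := h1
    rw [Rank.rk_eq_of_isLocBasis hb hx, Fintype.card_fin]
  · obtain ⟨b, hb⟩ := h0
    rw [Rank.rk_eq_of_isLocBasis hb hx, Fintype.card_fin]

theorem exists_max {E : X.Modules} (hE : FlatMod.IsFinLocFree E) (k : ℕ) :
    ∃ G : X.Modules, FlatMod.IsFinLocFree G ∧ κ G - κ E ∈ S X ∧ ∀ x, Rank.rk G x = max (Rank.rk E x) k := by
  induction k with
  | zero => exact ⟨E, hE, by rw [sub_self]; exact zero_mem _, fun x => by simp⟩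
  | succ k ih =>
    obtain ⟨G, hG, hS, hr⟩ := ih
    have hlc := Rank.isLocallyConstant_rk hE
    let U : X.Opens := ⟨Rank.rk E ⁻¹' {n | n ≤ k}, hlc _⟩
    let V : X.Opens := ⟨Rank.rk E ⁻¹' {n | ¬ n ≤ k}, hlc _⟩
    obtain ⟨L, hL, hL1, hL0⟩ := exists_clopen_line U V (by
        rw [← le_bot_iff]
        rintro x ⟨h1, h2⟩
        exact h2 h1) (by
        rw [← top_le_iff]
        rintro x -
        by_cases hx : Rank.rk E x ≤ k
        · exact Or.inl hx
        · exact Or.inr hx)
    have hse := Rank.shortExact_biprod G L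
    have hGL := Rank.isFinLocFree_biprod hG hL
    refine ⟨G ⊞ L, hGL, ?_, fun x => ?_⟩
    · have h1 : κ (G ⊞ L) = κ G + κ L := κ_ses hse hG hGL hL
      rw [h1, add_sub_right_comm]
      refine add_mem hS (AddSubgroup.subset_closure ⟨L, hL, fun p => ?_, rfl⟩)
      by_cases hp : Rank.rk E p ≤ k
      · exact (hL1 p hp).le
      · rw [hL0 p hp]; omega
    · have h1 : Rank.rk (G ⊞ L) x = Rank.rk G x + Rank.rk L x := Rank.rk_shortExact hse hG hL x
      rw [h1, hr]
      by_cases hp : Rank.rk E x ≤ k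
      · rw [hL1 x hp]; omega
      · rw [hL0 x hp]; omega

theorem exists_const [CompactSpace X] {E : X.Modules} (hE : FlatMod.IsFinLocFree E) :
    ∃ (k : ℕ) (G : X.Modules), FlatMod.IsFinLocFreeOfRank k G ∧ κ G - κ E ∈ S X := by
  have hfin := (Rank.isLocallyConstant_rk hE).range_finite
  obtain ⟨k, hk⟩ := hfin.bddAbove
  obtain ⟨G, hG, hS, hr⟩ := exists_max hE k
  refine ⟨k, G, Rank.isFinLocFreeOfRank_iff.2 ⟨hG, fun x => ?_⟩, hS⟩
  rw [hr x]
  exact max_eq_right (hk ⟨x, rfl⟩)

theorem split_one (X : Scheme.{u}) [CompactSpace X] {E : X.Modules} (hE : FlatMod.IsFinLocFree E) :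
    ∃ (X' : Scheme.{u}) (_ : CompactSpace X') (f : X' ⟶ X), Function.Injective (pull f) ∧ pull f (κ E) ∈ S X' := by
  obtain ⟨k, G, hG, hS⟩ := exists_const hE
  obtain ⟨X', hX', f, hf, hf'⟩ := split_rank k X G hG
  refine ⟨X', hX', f, hf, ?_⟩
  have h1 := sub_mem hf' (pull_mem f hS)
  rw [map_sub] at h1
  rwa [sub_sub_cancel] at h1

theorem split_elt (X : Scheme.{u}) [CompactSpace X] (x : KR X) :
    ∃ (X' : Scheme.{u}) (_ : CompactSpace X') (f : X' ⟶ X), Function.Injective (pull f) ∧ pull f x ∈ S X' := by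
  obtain ⟨E, F, hE, hF, rfl⟩ := exists_eq_sub x
  obtain ⟨X₁, _, f₁, hf₁, h₁⟩ := split_one X hE
  obtain ⟨X₂, _, f₂, hf₂, h₂⟩ := split_one X₁ (isFinLocFree_pullback f₁ hF)
  refine ⟨X₂, inferInstance, f₂ ≫ f₁, fun a b hab => hf₁ (hf₂ (by rwa [pull_comp, pull_comp] at hab)), ?_⟩
  rw [map_sub, pull_comp, pull_comp, pull_κ f₁ hF]
  exact sub_mem (pull_mem f₂ h₁) h₂

theorem split_two (X : Scheme.{u}) [CompactSpace X] (x y : KR X) :
    ∃ (X' : Scheme.{u}) (_ : CompactSpace X') (f : X' ⟶ X), Function.Injective (pull f) ∧ pull f x ∈ S X' ∧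
      pull f y ∈ S X' := by
  obtain ⟨X₁, _, f₁, hf₁, h₁⟩ := split_elt X x
  obtain ⟨X₂, _, f₂, hf₂, h₂⟩ := split_elt X₁ (pull f₁ y)
  refine ⟨X₂, inferInstance, f₂ ≫ f₁, fun a b hab => hf₁ (hf₂ (by rwa [pull_comp, pull_comp] at hab)), ?_, ?_⟩
  · rw [pull_comp]
    exact pull_mem f₂ h₁
  · rw [pull_comp]
    exact h₂

/-- `K₀` of vector bundles on a quasi-compact scheme is a special λ-ring. -/
theorem isSpecial (X : Scheme.{u}) [CompactSpace X] : LambdaRing.IsSpecial (KR X) := by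
  refine K266.LamLine.isSpecial_of_split fun x y => ?_
  obtain ⟨X', _, f, hf, hx, hy⟩ := split_two X x y
  exact ⟨KR X', inferInstance, inferInstance, pull f, line X', hf, pull_lam f, fun u hu => rankOne_line hu, hx, hy⟩

end K266.SplitVb
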