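import Groth.Agent.Krr.H500.UInd
import Groth.Agent.Krr.H468.ExcMain
import Groth.Agent.Krr.H472.KoszulRel
import Groth.Agent.Krr.H472.ExcRec
import Groth.Agent.KRR.K535.KrSelf
import Groth.Agent.Krr.H496.ExcBundle
import Groth.Agent.SGA6.K266.SplitVb
import Groth.Agent.OmegaSh.K583.ConMap

/-!
# Excess intersection along the blow-up of a Koszul-regular closed immersion: the homology of `f^* L`

`i : Y ⟶ X` a Koszul-regular closed immersion, `L → i_* M` a finite resolution by bundles, `f : X' ⟶ X` such that the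
base change `j : Y' ⟶ X'` of `i` is a regular closed immersion. Then `H_p(f^* L) ≅ j_* E_p` with `E_p` a bundle on `Y'`
whose class is `g^*[M] · λ^p(g^*[N] - [N'])`.
-/

set_option autoImplicit false

universe u v w

open CategoryTheory Category Limits MonoidalCategory AlgebraicGeometry

namespace K266.ExcKos

open Groth.Agent Groth.Agent.Krr.H500 Groth.Agent.Krr.H500.KosEval Groth.Agent.Krr.H500.KosLocal
  Groth.Agent.Krr.H500.KosMod Groth.Agent.Krr.H500.StalkCx Groth.Agent.Dcoh.Stalk Groth.Agent.Krr.H468.TCx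
  Groth.Agent.Krr.H489.PullRes Groth.Agent.Flat2D.PbStalk Groth.Agent.CycB.PushStalk Groth.Agent.Sga67.IdealPow
  CohIII Groth.Agent.Ega3A.Koszul Groth.Agent.Flat2H.KoszulBasic Groth.Agent.Krr.H500.UVanish
  Groth.Agent.Krr.H500.UInd

variable {X Y X₁ Y₁ : Scheme.{u}} {f : X ⟶ Y} {φ : Y₁ ⟶ Y} {f₁ : X₁ ⟶ Y₁} {ψ : X₁ ⟶ X}

theorem exists_seq_kos [IsClosedImmersion f] (hf : RegImm.IsRegularImmersion .koszul f) (x : X) {y : Y}
    (hy : f x = y) :
    ∃ a : List (Y.presheaf.stalk y), LCI.IsKoszulRegularSeq _ a ∧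
      Ideal.span {t | t ∈ a} = RingHom.ker (stalkTo f x hy).hom := by
  subst hy
  rw [stalkTo_rfl]
  obtain ⟨c, hx, -⟩ := K535.KrImm.exists_chart hf x ⊤ trivial
  refine ⟨_, c.isKoszulRegularSeq_stalk hx, ?_⟩
  rw [c.ker_stalkMap hx]
  congr 1
  ext t
  simp only [Set.mem_ofPred_eq, List.mem_map, Set.mem_range]
  constructor
  · rintro ⟨a, ha, rfl⟩
    obtain ⟨j, rfl⟩ := List.mem_iff_get.1 ha
    exact ⟨j, rfl⟩
  · rintro ⟨j, rfl⟩
    exact ⟨c.l.get j, List.get_mem _ _, rfl⟩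

/-- **The maps `U_p(J^{n+1}) ⟶ U_p(J^n)` vanish.** -/
theorem map_incl_eq_zero (hsq : IsPullback f₁ ψ φ f) [IsClosedImmersion f]
    (hf : RegImm.IsRegularImmersion .koszul f)
    (hf₁ : Mor2.IsRegularClosedImmersion f₁) {F : X.Modules} (hF : FlatMod.IsFinLocFree F) {n : ℕ}
    {L : ChainComplex Y.Modules ℕ} {π : L ⟶ (ChainComplex.single₀ Y.Modules).obj ((Scheme.Modules.pushforward f).obj F)}
    (hL : KRR.IsLFRes ((Scheme.Modules.pushforward f).obj F) n L π) (m p : ℕ) :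
    (U (pullCx φ L) p).map (incl f₁ m) = 0 := by
  have hf₁c : IsClosedImmersion f₁ := hf₁.1
  apply Dcoh.StalkMod.hom_ext_stalk
  intro y
  suffices h : (stalkF y).map ((U (pullCx φ L) p).map (incl f₁ m)) = 0 by
    have h1 : (stalkF y).map ((U (pullCx φ L) p).map (incl f₁ m)) = (stalkF y).map 0 := by
      rw [h, Functor.map_zero]
    exact congrArg ModuleCat.Hom.hom h1
  refine stalk_map_eq_zero φ y L (incl f₁ m) p ?_
  obtain ⟨P, hP⟩ := exists_stalkRes hL (φ y)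
  rw [← hP]
  by_cases hy : φ y ∈ Set.range f
  · obtain ⟨x, hx⟩ := hy
    obtain ⟨x₁, hx₁, -⟩ : ∃ z : X₁, f₁ z = y ∧ ψ z = x := by
      obtain ⟨z, h1, h2⟩ := Scheme.Pullback.exists_preimage_pullback (f := φ) (g := f) y x hx.symm
      refine ⟨hsq.isoPullback.inv z, ?_, ?_⟩
      · rw [← Scheme.Hom.comp_apply, hsq.isoPullback_inv_fst, h1]
      · rw [← Scheme.Hom.comp_apply, hsq.isoPullback_inv_snd, h2]
    subst hx₁
    have hw : f (ψ x₁) = φ (f₁ x₁) := by
      rw [← Scheme.Hom.comp_apply, ← Scheme.Hom.comp_apply, hsq.w]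
    obtain ⟨a, ha, hak⟩ := exists_seq_kos hf (ψ x₁) hw
    obtain ⟨b, hb, hbk⟩ := exists_seq f₁ hf₁ x₁
    obtain ⟨r, ⟨e⟩⟩ := exists_push_equiv hF (ψ x₁) hw
    rw [← hak] at e
    refine vanish_ext (b := b) ha ?_ e _ (fun i => ?_) P p
    · rw [← Ideal.map_ofList, ofList_eq_span, ofList_eq_span, hak, hbk]
      exact (Sga3C.QStalkKer.ker_stalkMap_of_isPullback hsq x₁ hw).symm
    · exact koszul_stalk f₁ x₁ b hb hbk m i
  · have hs : Subsingleton ((stalkF (φ y)).obj ((Scheme.Modules.pushforward f).obj F)) := by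
      refine subsingleton_stalk_push f F (φ y) ?_
      rw [f.isClosedEmbedding.isClosed_range.closure_eq]
      exact hy
    refine vanish_ext (a := [1]) (b := [1]) (r := 0) (Flat2H.KoszulBC.isKoszulRegularSeq_of_isWeaklyRegular
      (weaklyRegular_one _)) ?_ ?_ _ (fun i => ?_) P p
    · simp
    · exact { toFun := fun _ => 0, invFun := fun _ => 0, map_add' := fun _ _ => by simp,
              map_smul' := fun _ _ => by simp, left_inv := fun _ => Subsingleton.elim _ _,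
              right_inv := fun _ => Subsingleton.elim _ _ }
    · exact (kv_iff _ _).1 (kv_one _) i

open Groth.Agent.Sga67.KvbRing Groth.Agent.Krr.H468.UPush Groth.Agent.Krr.H468.ExcMain Groth.Agent.Sga67
  Groth.Agent.Sga67.LocBasis

section Classes

variable [IsClosedImmersion f] (hsq : IsPullback f₁ ψ φ f) (hf : RegImm.IsRegularImmersion .koszul f)
  (hf₁ : Mor2.IsRegularClosedImmersion f₁) {d₁ : ℕ}
  (hC₁ : FlatMod.IsFinLocFreeOfRank d₁ (Omega.conormal f₁))
  (hC : FlatMod.IsFinLocFree (Omega.conormal f))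
  {F : X.Modules} (hF : FlatMod.IsFinLocFree F) {m : ℕ} {L : ChainComplex Y.Modules ℕ}
  {π : L ⟶ (ChainComplex.single₀ Y.Modules).obj ((Scheme.Modules.pushforward f).obj F)}
  (hL : KRR.IsLFRes ((Scheme.Modules.pushforward f).obj F) m L π)

include hf hC hF hL in
theorem flf_homology (p : ℕ) : FlatMod.IsFinLocFree ((pullCx f L).homology p) := by
  obtain ⟨E, hE, hE'⟩ := Krr.H495.ExtExist.exists_isExtPow p (Omega.conormal f) hC
  exact K535.KrChain.isFinLocFree_homology hf (fun k => Dcoh.Spread.isFlat_of_isFinLocFree (hL.finLocFree k))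
    ((Krr.H498.ResCat.quasiIso_iff π).1 hL.quasiIso) hF p hE' hE

include hf hC hF hL in
theorem flf_W (p : ℕ) : FlatMod.IsFinLocFree (W ψ f L p) :=
  PerfB.FlatPull.isFinLocFree_pullback ψ (flf_homology hf hC hF hL p)

include hsq hf hC hF hL in
theorem nonempty_U [IsClosedImmersion f₁] (G : X₁.Modules) (hG : FlatMod.IsFinLocFree G) (p : ℕ) :
    Nonempty ((U (pullCx φ L) p).obj ((Scheme.Modules.pushforward f₁).obj G) ≅
      (Scheme.Modules.pushforward f₁).obj (((DCoh.tensorBi (X := X₁)).obj G).obj (W ψ f L p))) :=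
  nonempty_U_pull f₁ hsq.w L
    (fun k => Dcoh.Spread.isFlat_of_isFinLocFree (PerfB.FlatPull.isFinLocFree_pullback f (hL.finLocFree k)))
    (fun k => Dcoh.Spread.isFlat_of_isFinLocFree (flf_homology hf hC hF hL k)) G
    (Dcoh.Spread.isFlat_of_isFinLocFree hG) p

include hsq hf hf₁ hC₁ hC hF hL in
theorem exists_E [IsClosedImmersion f₁] :
    ∃ E : ℕ → ℕ → X₁.Modules, (∀ p n, FlatMod.IsFinLocFree (E p n)) ∧
      (∀ p n, Nonempty ((U (pullCx φ L) p).obj (J f₁ n) ≅ (Scheme.Modules.pushforward f₁).obj (E p n))) ∧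
      (∀ n, c (E 0 n) = c (CohB1.tensorMod (IdealPow.S f₁ n) (W ψ f L 0))) ∧
      ∀ p n, c (E (p + 1) n) + c (E p (n + 1)) =
        c (CohB1.tensorMod (IdealPow.S f₁ n) (W ψ f L (p + 1))) := by
  have hS := Krr.H472.KoszulRel.isFinLocFree_S f₁ hf₁ d₁ hC₁
  have hP : ∀ k, FlatMod.IsFlat ((pullCx φ L).X k) := fun k =>
    Groth.Agent.Dcoh.Spread.isFlat_of_isFinLocFree (PerfB.FlatPull.isFinLocFree_pullback φ (hL.finLocFree k))
  have hv := map_incl_eq_zero hsq hf hf₁ hF hL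
  refine exists_classes f₁ (fun p n => (U (pullCx φ L) p).obj (J f₁ n))
    (fun p n => CohB1.tensorMod (IdealPow.S f₁ n) (W ψ f L p))
    (fun p n => LocBasis.isFinLocFree_tensorMod (hS n) (flf_W hf hC hF hL p)) (fun n => ?_) (fun p n => ?_)
  · have := isIso_map_zero (pullCx φ L) hP (ses_shortExact f₁ n) (hv n 0)
    exact ⟨@asIso _ _ _ _ _ this ≪≫ (nonempty_U hsq hf hC hF hL (IdealPow.S f₁ n) (hS n) 0).some⟩
  · exact ⟨_, shortExact_of_zero (pullCx φ L) hP (ses_shortExact f₁ n) p (hv n p) (hv n (p + 1)),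
      ⟨Iso.refl _⟩, nonempty_U hsq hf hC hF hL (IdealPow.S f₁ n) (hS n) (p + 1), ⟨Iso.refl _⟩⟩

open K266.KRing K266.SplitVb LambdaRing Finset

include hf hC hF hL in
theorem κ_W (p : ℕ) : κ (W ψ f L p) =
    κ ((Scheme.Modules.pullback ψ).obj F) *
      LambdaOps.lam p (κ ((Scheme.Modules.pullback ψ).obj (Omega.conormal f))) := by
  obtain ⟨E, hE, hE'⟩ := Krr.H495.ExtExist.exists_isExtPow p (Omega.conormal f) hC
  obtain ⟨e⟩ := K535.KrChain.nonempty_homology hf (fun k => Dcoh.Spread.isFlat_of_isFinLocFree (hL.finLocFree k))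
    ((Krr.H498.ResCat.quasiIso_iff π).1 hL.quasiIso) p hE'
  have h0 := flf_homology hf hC hF hL p
  have h1 : κ ((pullCx f L).homology p) = κ F * LambdaOps.lam p (κ (Omega.conormal f)) := by
    rw [lam_κ p hC hE', κ_iso e h0]
    exact κ_tensor hF hE
  rw [← pull_κ ψ h0, h1, map_mul, pull_lam, pull_κ ψ hF, pull_κ ψ hC]

theorem κ_S_zero [IsClosedImmersion f₁] : κ (IdealPow.S f₁ 0) = 1 := by
  obtain ⟨e⟩ : Nonempty (IdealPow.S f₁ 0 ≅ Coh.structureModule X₁) :=
    Groth.Agent.Ega3B.PullTensor.nonempty_pullUnitIso f₁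
  rw [← κ_one]
  exact (κ_iso e.symm TensorOps.isFinLocFree_structureModule).symm

include hf₁ hC₁ in
theorem relation_S [IsClosedImmersion f₁] (p : ℕ) (hp : 1 ≤ p) :
    ∑ j ∈ range (p + 1), (-1 : KR X₁) ^ j *
      (LambdaOps.lam (p - j) (κ (Omega.conormal f₁)) * κ (IdealPow.S f₁ j)) = 0 := by
  have hC := Krr.H472.KoszulRel.isFinLocFree_conormal f₁ d₁ hC₁
  have hS := Krr.H472.KoszulRel.isFinLocFree_S f₁ hf₁ d₁ hC₁
  choose L hLf hL using fun p => Groth.Agent.Krr.H495.ExtExist.exists_isExtPow p (Omega.conormal f₁) hC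
  have h := congrArg (toKR X₁) (Krr.H472.KoszulRel.relation_conormal f₁ hf₁ d₁ hC₁ L hL p hp)
  rw [map_sum, map_zero] at h
  rw [← h]
  refine Finset.sum_congr rfl fun j _ => ?_
  rw [map_zsmul, zsmul_eq_mul, lam_κ (p - j) hC (hL _)]
  push_cast
  congr 1
  exact (κ_tensor (hLf (p - j)) (hS j)).symm

include hf hC hF hL hf₁ hC₁ in
theorem κ_E [IsClosedImmersion f₁] {E : ℕ → ℕ → X₁.Modules}
    (h0 : ∀ n, c (E 0 n) = c (CohB1.tensorMod (IdealPow.S f₁ n) (W ψ f L 0)))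
    (hs : ∀ p n, c (E (p + 1) n) + c (E p (n + 1)) =
        c (CohB1.tensorMod (IdealPow.S f₁ n) (W ψ f L (p + 1)))) (p : ℕ) :
    κ (E p 0) = κ ((Scheme.Modules.pullback ψ).obj F) * LambdaOps.lam p
      (κ ((Scheme.Modules.pullback ψ).obj (Omega.conormal f)) - κ (Omega.conormal f₁)) := by
  have hS := Krr.H472.KoszulRel.isFinLocFree_S f₁ hf₁ d₁ hC₁
  refine Krr.H472.ExcRec.u_zero_eq _ _ _ (fun n => κ (IdealPow.S f₁ n)) (fun p => κ (W ψ f L p))
    (fun p n => κ (E p n)) κ_S_zero (relation_S hf₁ hC₁) (fun n => ?_) (fun p n => ?_)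
    (κ_W hf hC hF hL) p
  · exact (congrArg (toKR X₁) (h0 n)).trans (κ_tensor (hS n) (flf_W hf hC hF hL 0))
  · have := congrArg (toKR X₁) (hs p n)
    rw [map_add] at this
    exact this.trans (κ_tensor (hS n) (flf_W hf hC hF hL (p + 1)))

end Classes

end K266.ExcKos
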