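import Groth.Agent.SGA6.K266.PBFinal
import Groth.Agent.Ega3A.PChart

/-!
# The atlas of `P^r_S` over a quasi-compact base
-/

set_option autoImplicit false

universe u

open CategoryTheory CategoryTheory.Limits AlgebraicGeometry Filter

namespace K266.PnAtlas

open Groth.Agent Groth.Agent.Krr.H488.PicZ Groth.Agent.Krr.H488.Atlas Groth.Agent.Krr.H488.RegB
open Groth.Agent.Grpsch.PicGrp Groth.Agent.Fdesc.LocGen K266.KRing K266.PBRing

variable (r : ℕ) (S : Scheme.{u})

/-- `O(1)` is invertible. -/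
theorem hO : PicF.IsInvertible (Twist.twistOver r S 1) := Ega3B.ProjFrame.isInvertible_twistOver r 1

/-- Powers of `O(1)` on `P^r_S` are the `O(d)`. -/
theorem nonempty_pw_twistOver (d : ℤ) : Nonempty (pw (hO r S) d ≅ Twist.twistOver r S d) := by
  have hinv := fun d : ℤ => (Ega3B.ProjFrame.isInvertible_twistOver (Y := S) r d)
  have hmul : ∀ a b : ℤ, mk _ (hinv (a + b)) = mk _ (hinv a) * mk _ (hinv b) := by
    intro a b
    rw [mk_mul_mk, eq_comm, mk_eq_iff]
    exact Sga67.TwistOver.nonempty_twistOver_mul r S a b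
  have h0 : mk _ (hinv 0) = 1 := by
    have h2 := hmul 0 0
    rw [add_zero] at h2
    exact mul_left_cancel (h2.symm.trans (mul_one _).symm)
  let ψ : Multiplicative ℤ →* Pic (CohB1.ProjSpaceOver r S) :=
    { toFun := fun d => mk _ (hinv d.toAdd)
      map_one' := h0
      map_mul' := fun a b => hmul _ _ }
  have h1 : ∀ d : ℤ, mk _ (hinv d) = mk _ (hinv 1) ^ d := by
    intro d
    have := map_zpow ψ (Multiplicative.ofAdd 1) d
    rw [← ofAdd_zsmul, smul_eq_mul, mul_one] at this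
    exact this
  rw [← mk_eq_iff (isInvertible_pw _ d) (hinv d), mk_pw]
  exact (h1 d).symm

/-- `O(1)^{⊗ d} ⊗ F ≅ F(d)`. -/
theorem nonempty_tw_twF (d : ℤ) (F : (KRR.PY r S).Modules) :
    Nonempty ((tw (hO r S) d).obj F ≅ KRR.twF r S d F) := by
  obtain ⟨e⟩ := nonempty_pw_twistOver r S d
  exact ⟨Ega2.Tens.mapTIso e (Iso.refl F)⟩

/-- An affine chart around a point. -/
theorem exists_affine (x : S) : ∃ (W : S.Opens), IsAffineOpen W ∧ x ∈ W := by
  obtain ⟨W, hW, hxW, -⟩ := exists_isAffineOpen_mem_and_subset (X := S) (U := ⊤) (x := x) trivial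
  exact ⟨W, hW, hxW⟩

/-- The atlas of `P^r_S`. -/
theorem exists_atlas [CompactSpace S] :
    ∃ (ι : Type) (_ : Finite ι) (A : ι → Type u) (_ : ∀ i, CommRing (A i))
      (h : ∀ i, Spec (CommRingCat.of (A i)) ⟶ S) (_ : ∀ i, IsOpenImmersion (h i)),
      Nonempty (Atlas r (KRR.pr r S) (Twist.twistOver r S 1) A h) := by
  choose W hW hx using exists_affine S
  obtain ⟨F, hF⟩ := (isCompact_univ (X := S)).elim_finite_subcover (fun x : S => (W x : Set S))
    (fun x => (W x).isOpen) (fun x _ => Set.mem_iUnion.2 ⟨x, hx x⟩)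
  refine ⟨Fin F.card, inferInstance, fun i => Γ(S, W (F.equivFin.symm i).1), fun i => inferInstance,
    fun i => (hW (F.equivFin.symm i).1).fromSpec, fun i => inferInstance,
    ⟨⟨fun i => Ega3A.PChart.chart r _, fun i => Ega3A.PChart.isPullback_chart r _, fun x => ?_,
      fun i => ⟨Ega3A.PChart.chartTwistIso r _ 1⟩⟩⟩⟩
  obtain ⟨y, hy⟩ := Set.mem_iUnion.1 (hF (Set.mem_univ x))
  obtain ⟨hyF, hxy⟩ := Set.mem_iUnion.1 hy
  refine ⟨F.equivFin ⟨y, hyF⟩, ?_⟩
  rw [(hW _).range_fromSpec]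
  simpa using hxy

end K266.PnAtlas
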