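import Groth.Agent.SGA6.K266.TensTw
import Groth.Agent.Ega3A.PChart
import Groth.Agent.Dual.H311.Detect
import Groth.Agent.S1067
import Groth.Prelude.Def_KRR
import Groth.Agent.Sga67.TensorOps

/-!
# Objects of `D(P^r_S)` with `Rf_*(M(d)) = 0` for `0 ≤ d ≤ r` vanish
-/

set_option autoImplicit false

universe u

open CategoryTheory CategoryTheory.Limits AlgebraicGeometry
attribute [local instance] HasDerivedCategory.standard

namespace K266.PnDet

open Groth.Agent Groth.Agent.PerfB.TensD Groth.Agent.PerfB.TensExact Groth.Agent.PerfB.TensInv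
  Groth.Agent.PerfC.DTens Groth.Agent.Dcoh.DerPull Groth.Agent.PerfA.Restrict
  Groth.Agent.PerfC.ProjAbs291 Groth.Agent.PerfC.IsoLocus

/-- Morphisms `Lf^* Z ⟶ N` vanish if `Rf_* N = 0`. -/
theorem hom_eq_zero {X Y : Scheme.{u}} (f : X ⟶ Y) [DCoh.HasRpush f] [DCoh.HasLpull f] {Z : DCoh.D Y}
    {N : DCoh.D X} (hN : IsZero ((DCoh.Rpush f).obj N)) (φ : (DCoh.Lpull f).obj Z ⟶ N) : φ = 0 :=
  ((lpullAdj f).homEquiv _ _).injective (hN.eq_of_tgt _ _)

section tensor

variable {X : Scheme.{u}} {L M : X.Modules} [PreservesFiniteLimits (DCoh.tensorRightMod L)]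
  [PreservesFiniteLimits (DCoh.tensorRightMod M)]

/-- `K ↦ K ⊗ L` is faithful for `L` invertible. -/
theorem eq_zero_of_map (e : CohB1.tensorMod L M ≅ Coh.structureModule X) {K K' : DCoh.D X} (φ : K ⟶ K')
    (h : (tensD L).map φ = 0) : φ = 0 := by
  have : PreservesFiniteLimits (DCoh.tensorRightMod (Coh.structureModule X)) :=
    preservesFiniteLimits_of_isFinLocFree Sga67.TensorOps.isFinLocFree_structureModule
  obtain ⟨a⟩ := TensTw.nonempty_comp (N := Coh.structureModule X) e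
  obtain ⟨b⟩ := TensTw.nonempty_id (Iso.refl (Coh.structureModule X))
  have h1 := (a ≪≫ b).hom.naturality φ
  have h2 : (tensD L ⋙ tensD M).map φ = 0 := by
    rw [Functor.comp_map, h, Functor.map_zero]
  rw [h2, zero_comp] at h1
  exact ((cancel_epi ((a ≪≫ b).hom.app K)).1 (h1.symm.trans comp_zero.symm))

/-- `(L'[0]) ⊗ L ≅ (L' ⊗ L)[0]`. -/
noncomputable def tensD_inD (L' : X.Modules) :
    (tensD L).obj (DCoh.inD X L') ≅ DCoh.inD X (CohB1.tensorMod L' L) :=
  ((DCoh.tensorRightMod L).mapDerivedCategorySingleFunctor 0).app L'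

end tensor

section affine

variable (r : ℕ) (A : Type u) [CommRing A]

instance (d : ℤ) : PreservesFiniteLimits (DCoh.tensorRightMod (Twist.twistProjSpace r A d)) :=
  preservesFiniteLimits_of_isInvertible (Ega3B.ProjFrame.isInvertible_twistProjSpace r A d)

theorem isZero_affine [DCoh.HasRpush (CohB1.ProjSpace.toSpec r A)]
    [DCoh.HasLpull (CohB1.ProjSpace.toSpec r A)] (K : DCoh.D (CohB1.ProjSpace r A)) (hK : DCoh.IsQCohD K)
    (h : ∀ d : ℕ, d ≤ r → IsZero ((DCoh.Rpush (CohB1.ProjSpace.toSpec r A)).obj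
      ((tensD (Twist.twistProjSpace r A d)).obj K))) : IsZero K := by
  refine Groth.Agent.S1067.result r A K hK fun d hd m φ => ?_
  have hmul : ∀ a b : ℤ, Nonempty (CohB1.tensorMod (Twist.twistProjSpace r A a)
      (Twist.twistProjSpace r A b) ≅ Twist.twistProjSpace r A (a + b)) := by
    intro a b
    have h := Ega3B.ProjTwist.coveredByOne r A
    exact ⟨@asIso _ _ _ _ _ (Ega2.TwistInv.isIso_mulHom h (rfl : a + b = a + b))⟩
  have hone : Nonempty (Twist.twistProjSpace r A 0 ≅ Coh.structureModule (CohB1.ProjSpace r A)) := by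
    obtain ⟨e⟩ := Ega2.TwistInv.nonempty_unit_iso (CohB1.polyGrading r A)
    exact ⟨e.symm⟩
  obtain ⟨u⟩ := hone
  obtain ⟨e1⟩ := hmul (d : ℤ) (-(d : ℤ))
  obtain ⟨e2⟩ := hmul (-(d : ℤ)) (d : ℤ)
  have e1' : CohB1.tensorMod (Twist.twistProjSpace r A d) (Twist.twistProjSpace r A (-(d : ℤ))) ≅
      Coh.structureModule (CohB1.ProjSpace r A) := e1 ≪≫ eqToIso (by rw [add_neg_cancel]) ≪≫ u
  have e2' : CohB1.tensorMod (Twist.twistProjSpace r A (-(d : ℤ))) (Twist.twistProjSpace r A d) ≅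
      Coh.structureModule (CohB1.ProjSpace r A) := e2 ≪≫ eqToIso (by rw [neg_add_cancel]) ≪≫ u
  refine eq_zero_of_map e1' φ ?_
  let _ := lpullCommShift (CohB1.ProjSpace.toSpec r A)
  let a : (DCoh.Lpull (CohB1.ProjSpace.toSpec r A)).obj
      ((DCoh.inD _ (Coh.structureModule (Spec (CommRingCat.of A))))⟦m⟧) ≅
      (tensD (Twist.twistProjSpace r A d)).obj
        ((DCoh.inD (CohB1.ProjSpace r A) (Twist.twistProjSpace r A (-(d : ℤ))))⟦m⟧) :=
    ((DCoh.Lpull (CohB1.ProjSpace.toSpec r A)).commShiftIso m).app _ ≪≫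
      (shiftFunctor _ m).mapIso (PerfUnit.lpullO (CohB1.ProjSpace.toSpec r A) ≪≫
        (DerivedCategory.singleFunctor _ 0).mapIso e2'.symm ≪≫ (tensD_inD _).symm) ≪≫
      ((tensD (Twist.twistProjSpace r A d)).commShiftIso m).symm.app _
  have h1 := hom_eq_zero (CohB1.ProjSpace.toSpec r A) (h d hd)
    (a.hom ≫ (tensD (Twist.twistProjSpace r A d)).map φ)
  exact (cancel_epi a.hom).1 (h1.trans comp_zero.symm)

end affine

section global

variable (r : ℕ) (S : Scheme.{u})

instance (d : ℤ) : PreservesFiniteLimits (DCoh.tensorRightMod (Twist.twistOver r S d)) :=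
  preservesFiniteLimits_of_isInvertible (Ega3B.ProjFrame.isInvertible_twistOver r d)

/-- `M(d)` restricts to `M|(d)` on a chart. -/
noncomputable def tensDChart {A : Type u} [CommRing A] (h : Spec (CommRingCat.of A) ⟶ S) [IsOpenImmersion h]
    (d : ℤ) : tensD (Twist.twistOver r S d) ⋙ restrictD (Ega3A.PChart.chart r h) ≅
      restrictD (Ega3A.PChart.chart r h) ⋙ tensD (Twist.twistProjSpace r A d) :=
  Dcoh.MapDer.mapDerCompIso (tensorRestrict (Ega3A.PChart.chart r h) (Twist.twistOver r S d) ≪≫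
    Functor.isoWhiskerLeft _ (tensorRightModCongr (Ega3A.PChart.restrictTwistIso r h d))) ≪≫
    (Dcoh.MapDer.mapDerCompIso (Iso.refl _)).symm

theorem isZero [DCoh.HasRpush (KRR.pr r S)] (M : DCoh.D (KRR.PY r S)) (hM : DCoh.IsQCohD M)
    (h : ∀ d : ℕ, d ≤ r → IsZero ((DCoh.Rpush (KRR.pr r S)).obj
      ((tensD (Twist.twistOver r S d)).obj M))) : IsZero M := by
  refine Dual.H311.Detect.isZero_of_cover M fun x => ?_
  obtain ⟨W, hW, hxW, -⟩ := exists_isAffineOpen_mem_and_subset (X := S) (U := ⊤) (x := KRR.pr r S x) trivial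
  let c := Ega3A.PChart.chart r hW.fromSpec
  have hp : IsPullback c (CohB1.ProjSpace.toSpec r Γ(S, W)) (KRR.pr r S) hW.fromSpec :=
    Ega3A.PChart.isPullback_chart r hW.fromSpec
  have hx : x ∈ Set.range c := by
    obtain ⟨y, hy⟩ : KRR.pr r S x ∈ Set.range hW.fromSpec := by
      rw [hW.range_fromSpec]
      exact hxW
    obtain ⟨z, hz, -⟩ := Scheme.Pullback.exists_preimage_pullback (f := KRR.pr r S) (g := hW.fromSpec) x y
      hy.symm
    refine ⟨hp.isoPullback.inv z, ?_⟩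
    have h1 : hp.isoPullback.inv ≫ c = pullback.fst (KRR.pr r S) hW.fromSpec := hp.isoPullback_inv_fst
    rw [← hz, ← h1]
    rfl
  obtain ⟨y, hy⟩ := hx
  have := Dcoh.DerSch.hasRpush (CohB1.ProjSpace.toSpec r Γ(S, W))
  have := Dcoh.DerPull.hasLpull (CohB1.ProjSpace.toSpec r Γ(S, W))
  have := Dcoh.DerPull.hasLpull (KRR.pr r S)
  refine ⟨_, c, inferInstance, y, hy, isZero_affine r _ _ (PerfA.AffModel.isQCohD_restrictD c hM)
    fun d hd => ?_⟩
  obtain ⟨e⟩ := nonempty_Rpush hp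
  have h1 : IsZero ((restrictD hW.fromSpec).obj ((DCoh.Rpush (KRR.pr r S)).obj
      ((tensD (Twist.twistOver r S d)).obj M))) := (restrictD hW.fromSpec).map_isZero (h d hd)
  exact h1.of_iso ((DCoh.Rpush (CohB1.ProjSpace.toSpec r Γ(S, W))).mapIso
    ((tensDChart r S hW.fromSpec d).symm.app M) ≪≫ e.symm.app _)

end global

end K266.PnDet
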