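import Groth.Agent.SGA6.K266.PerfUnit
import Groth.Agent.Sga67.TwistOver
import Groth.Agent.Dcoh.MapDer
import Groth.Agent.PerfA.PerfLocal

/-!
# Tensoring with invertible modules on `D(O_X)`: composition, unit, perfectness, comparison with `⊗ᴸ`
-/

set_option autoImplicit false

universe u

open CategoryTheory CategoryTheory.Limits AlgebraicGeometry
attribute [local instance] HasDerivedCategory.standard

namespace K266.TensTw

open Groth.Agent Groth.Agent.PerfB.TensD Groth.Agent.PerfB.TensExact Groth.Agent.PerfB.TensInv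
  Groth.Agent.PerfC.DTens

variable {X : Scheme.{u}}

section

variable {L M N : X.Modules} [PreservesFiniteLimits (DCoh.tensorRightMod L)]
  [PreservesFiniteLimits (DCoh.tensorRightMod M)] [PreservesFiniteLimits (DCoh.tensorRightMod N)]

theorem nonempty_comp (e : CohB1.tensorMod L M ≅ N) : Nonempty (tensD L ⋙ tensD M ≅ tensD N) :=
  ⟨Dcoh.MapDer.mapDerCompIso (tensorRightModComp L M ≪≫ tensorRightModCongr e)⟩

theorem nonempty_id (e : L ≅ Coh.structureModule X) : Nonempty (tensD L ≅ 𝟭 (DCoh.D X)) :=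
  ⟨Dcoh.MapDer.mapDerIso (F' := 𝟭 X.Modules) (tensorRightModCongr e ≪≫ tensorRightModUnit) ≪≫
    Dcoh.MapDer.mapDerId _⟩

theorem isPerfect (hL : PicF.IsInvertible L) {K : DCoh.D X} (hK : DCoh.IsPerfect K) :
    DCoh.IsPerfect ((tensD L).obj K) := by
  refine PerfA.PerfLocal.isPerfect_of_restrictD_opens _ fun x => ?_
  obtain ⟨V, hx, ⟨e⟩⟩ := hL x
  exact ⟨V, hx, PerfA.PerfLocal.isPerfect_of_iso ((tensDRestrictTriv L V.ι e).app K).symm
    (PerfA.PerfLocal.isPerfect_restrictD V.ι hK)⟩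

/-- `L ⊗ᴸ K ≅ K ⊗ L` for `L` flat. -/
theorem nonempty_LTX (hL : FlatMod.IsFlat L) (K : DCoh.D X) :
    Nonempty (((LTX X).obj (DCoh.inD X L)).obj K ≅ (tensD L).obj K) := by
  obtain ⟨E, ⟨e⟩⟩ := PerfA.Restrict.exists_rep X K
  obtain ⟨a⟩ := Dcoh.LTMod.nonempty_singleIso L
  have h1 := Dcoh.KFlatMod.isKFlat_single L hL 0
  exact ⟨((LTX X).obj _).mapIso e.symm ≪≫
    (((LTX X).mapIso ((DerivedCategory.singleFunctorIsoCompQ X.Modules 0).app L)).app _) ≪≫
    κIso _ E h1 ≪≫ DerivedCategory.Q.mapIso (a.symm.app E) ≪≫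
    ((DCoh.tensorRightMod L).mapDerivedCategoryFactors.app E).symm ≪≫ (tensD L).mapIso e⟩

end

/-- `L ⊗ -` and `- ⊗ L` on the derived category. -/
theorem nonempty_braid (L : X.Modules) [PreservesFiniteLimits (DCoh.tensorRightMod L)]
    [PreservesFiniteLimits ((DCoh.tensorBi (X := X)).obj L)]
    [PreservesFiniteColimits ((DCoh.tensorBi (X := X)).obj L)] :
    Nonempty (((DCoh.tensorBi (X := X)).obj L).mapDerivedCategory ≅ tensD L) :=
  ⟨Dcoh.MapDer.mapDerIso (Dcoh.TMod.braidIso L)⟩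

end K266.TensTw
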