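import Groth.Agent.SGA6.K266.TorLoc
import Groth.Agent.Dual3.K478.TorBC

/-!
# Tor-independence from charts of the source
-/

set_option autoImplicit false
universe u

open CategoryTheory CategoryTheory.Limits AlgebraicGeometry TensorProduct

namespace K266.TorCharts

open K478.TorBC K266.TorLoc

/-- Flat change of the second algebra. -/
theorem torVan_of_flat {A A' B C : CommRingCat.{u}} (α : A ⟶ A') (φ : A ⟶ B) (ψ : B ⟶ C) (hψ : ψ.hom.Flat)
    (h : TorVan φ α) : TorVan (φ ≫ ψ) α := by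
  intro i hi
  obtain ⟨p, rfl⟩ : ∃ p, i = p + 1 := ⟨i - 1, by omega⟩
  let _ := φ.hom.toAlgebra
  let _ := ψ.hom.toAlgebra
  let _ := (φ ≫ ψ).hom.toAlgebra
  let _ := α.hom.toAlgebra
  have : IsScalarTower A B C := IsScalarTower.of_algebraMap_eq fun _ => rfl
  have : Module.Flat B C := hψ
  exact tor_of_flat (A := A) (B := B) (C := C) A' p (h (p + 1) hi)

/-- Change of the base ring along an open immersion. -/
theorem torVan_of_open {A A₁ A' B : CommRingCat.{u}} (β : A ⟶ A₁) [IsOpenImmersion (Spec.map β)]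
    (α : A₁ ⟶ A') (φ : A₁ ⟶ B) (h : TorVan (β ≫ α) (β ≫ φ)) : TorVan α φ := by
  intro i hi
  obtain ⟨p, rfl⟩ : ∃ p, i = p + 1 := ⟨i - 1, by omega⟩
  let _ := β.hom.toAlgebra
  let _ := α.hom.toAlgebra
  let _ := φ.hom.toAlgebra
  let _ := (β ≫ α).hom.toAlgebra
  let _ := (β ≫ φ).hom.toAlgebra
  have : IsScalarTower A A₁ A' := IsScalarTower.of_algebraMap_eq fun _ => rfl
  have : IsScalarTower A A₁ B := IsScalarTower.of_algebraMap_eq fun _ => rfl
  have hflat : Module.Flat A A₁ := by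
    have h1 : Flat (Spec.map β) := inferInstance
    rw [Flat.SpecMap_iff] at h1
    exact h1
  have hepi : Algebra.IsEpi A A₁ := by
    have h1 : Mono (Spec.map β) := inferInstance
    have h2 : Epi β := by
      refine ⟨fun {Z} g h hgh => ?_⟩
      apply Spec.map_injective
      rw [← cancel_mono (Spec.map β), ← Spec.map_comp, ← Spec.map_comp, hgh]
    have h3 : Epi (CommRingCat.ofHom (algebraMap A A₁)) := h2
    exact CommRingCat.epi_iff_epi.mp h3
  exact tor_of_epi (A := A) A₁ B A' p (h (p + 1) hi)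

/-- Vanishing of `Tor` for all affine opens, from charts. -/
theorem torVan_of_charts {X : Scheme.{u}} {A A' : CommRingCat.{u}} (f : X ⟶ Spec A) (α : A ⟶ A')
    (h : ∀ x : X, ∃ (B : CommRingCat.{u}) (φ : A ⟶ B) (c : Spec B ⟶ X) (_ : IsOpenImmersion c),
      x ∈ Set.range c ∧ c ≫ f = Spec.map φ ∧ TorVan φ α) {B₁ : CommRingCat.{u}} (φ₁ : A ⟶ B₁)
    (a : Spec B₁ ⟶ X) [IsOpenImmersion a] (ha : a ≫ f = Spec.map φ₁) : TorVan φ₁ α := by
  intro i hi
  obtain ⟨p, rfl⟩ : ∃ p, i = p + 1 := ⟨i - 1, by omega⟩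
  let s : Set B₁ := {r | ∃ (B : CommRingCat.{u}) (φ : A ⟶ B) (c : Spec B ⟶ X) (_ : IsOpenImmersion c),
    c ≫ f = Spec.map φ ∧ TorVan φ α ∧ Set.range (Spec.map (CommRingCat.ofHom
      (algebraMap B₁ (Localization.Away r))) ≫ a) ⊆ Set.range c}
  have hs : Ideal.span s = ⊤ := by
    by_contra hne
    obtain ⟨m, hm, hsm⟩ := Ideal.exists_le_maximal _ hne
    let x : Spec B₁ := ⟨m, hm.isPrime⟩
    obtain ⟨B, φ, c, hc, hx, hcf, ht⟩ := h (a x)
    have hxo : x ∈ a ⁻¹ᵁ c.opensRange := hx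
    obtain ⟨_, ⟨r, rfl⟩, hxr, hle⟩ := TopologicalSpace.Opens.isBasis_iff_nbhd.mp
      (PrimeSpectrum.isBasis_basic_opens (R := B₁)) hxo
    have hr : r ∈ s := by
      refine ⟨B, φ, c, hc, hcf, ht, ?_⟩
      rintro _ ⟨y, rfl⟩
      have h1 : Spec.map (CommRingCat.ofHom (algebraMap B₁ (Localization.Away r))) y ∈
          Set.range (PrimeSpectrum.comap (algebraMap B₁ (Localization.Away r))) := ⟨y, rfl⟩
      rw [PrimeSpectrum.localization_away_comap_range (Localization.Away r) r] at h1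
      exact hle h1
    exact hxr (hsm (Ideal.subset_span hr))
  let _ := φ₁.hom.toAlgebra
  let _ := α.hom.toAlgebra
  refine @tor_of_span A B₁ _ _ _ A' _ _ s hs (fun r => Localization.Away r.1) _
    (fun r => (φ₁ ≫ CommRingCat.ofHom (algebraMap B₁ (Localization.Away r.1))).hom.toAlgebra) _
    (fun r => @IsScalarTower.of_algebraMap_eq A B₁ (Localization.Away r.1) _ _ _ _ _
      (φ₁ ≫ CommRingCat.ofHom (algebraMap B₁ (Localization.Away r.1))).hom.toAlgebra fun _ => rfl) _ p fun r => ?_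
  obtain ⟨B, φ, c, hc, hcf, ht, hle⟩ := r.2
  let ψ' := IsOpenImmersion.lift c (Spec.map (CommRingCat.ofHom (algebraMap B₁ (Localization.Away r.1))) ≫ a) hle
  have hψ' : ψ' ≫ c = Spec.map (CommRingCat.ofHom (algebraMap B₁ (Localization.Away r.1))) ≫ a :=
    IsOpenImmersion.lift_fac _ _ _
  have hloc : IsOpenImmersion (Spec.map (CommRingCat.ofHom (algebraMap B₁ (Localization.Away r.1)))) :=
    inferInstance
  have hopen : IsOpenImmersion ψ' := by
    have h1 : IsOpenImmersion (ψ' ≫ c) := by rw [hψ']; infer_instance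
    exact IsOpenImmersion.of_comp ψ' c
  obtain ⟨ψ, hψ⟩ : ∃ ψ : B ⟶ CommRingCat.of (Localization.Away r.1), Spec.map ψ = ψ' :=
    ⟨Spec.preimage ψ', Spec.map_preimage _⟩
  have hflat : ψ.hom.Flat := by
    have h1 : Flat (Spec.map ψ) := by rw [hψ]; infer_instance
    rwa [Flat.SpecMap_iff] at h1
  have h2 : φ ≫ ψ = φ₁ ≫ CommRingCat.ofHom (algebraMap B₁ (Localization.Away r.1)) := by
    apply Spec.map_injective
    rw [Spec.map_comp, Spec.map_comp, hψ, ← hcf, ← Category.assoc, hψ', Category.assoc, ha]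
  have h3 := torVan_of_flat α φ ψ hflat ht
  rw [h2] at h3
  exact h3 (p + 1) hi

/-- Tor-independence from charts of the source. -/
theorem torIndep_of_charts {X : Scheme.{u}} {A A' : CommRingCat.{u}} (f : X ⟶ Spec A) (α : A ⟶ A')
    (h : ∀ x : X, ∃ (B : CommRingCat.{u}) (φ : A ⟶ B) (c : Spec B ⟶ X) (_ : IsOpenImmersion c),
      x ∈ Set.range c ∧ c ≫ f = Spec.map φ ∧ TorVan φ α) : TorIndep f (Spec.map α) := by
  refine torIndep_of_torVan fun {A₁ B₁ A₁'} φ₁ α₁ a b b' _ _ _ h1 h2 => ?_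
  obtain ⟨β, rfl⟩ : ∃ β : A ⟶ A₁, Spec.map β = b := ⟨Spec.preimage b, Spec.map_preimage _⟩
  obtain ⟨γ, rfl⟩ : ∃ γ : A' ⟶ A₁', Spec.map γ = b' := ⟨Spec.preimage b', Spec.map_preimage _⟩
  refine torVan_of_open β α₁ φ₁ ?_
  have h3 : β ≫ α₁ = α ≫ γ := by
    apply Spec.map_injective
    rw [Spec.map_comp, Spec.map_comp, h2]
  rw [h3]
  have h4 : TorVan (β ≫ φ₁) α := torVan_of_charts f α h (β ≫ φ₁) a (by rw [Spec.map_comp, h1])
  have hflat : γ.hom.Flat := by
    have h1 : Flat (Spec.map γ) := inferInstance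
    rwa [Flat.SpecMap_iff] at h1
  exact torVan_of_flat (β ≫ φ₁) α γ hflat h4.symm

end K266.TorCharts
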