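import Groth.Agent.Models.TorVan2
import Groth.Agent.CycA.TorShift
import Mathlib.RingTheory.LocalProperties.Exactness
import Mathlib.RingTheory.Localization.BaseChange
import Mathlib.Algebra.Category.Ring.Epi

/-!
# Localization of the vanishing of `Tor`

* `tor_of_flat`: `Tor^A(B, N) = 0` implies `Tor^A(C, N) = 0` for `C` flat over `B`.
* `tor_of_span`: `Tor^A(B, N) = 0` may be checked on the localizations `B_r`, `r` in a set generating the unit ideal.
* `tor_of_epi`: `Tor^A(B, N) = 0` iff `Tor^{A₁}(B, N) = 0` for `A → A₁` a flat epimorphism, `B`, `N` modules over `A₁`.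
-/

set_option autoImplicit false
universe u

open CategoryTheory CategoryTheory.Limits TensorProduct

namespace K266.TorLoc

open Groth.Agent.Models.TorVan Groth.Agent.Models.TorVan2 Function

variable {A B C : Type u} [CommRing A] [CommRing B] [CommRing C] [Algebra A B] [Algebra A C] [Algebra B C]
  [IsScalarTower A B C] (N : Type u) [AddCommGroup N] [Module A N]

theorem exact_cancel {P Q R : Type u} [AddCommGroup P] [Module A P] [AddCommGroup Q] [Module A Q]
    [AddCommGroup R] [Module A R] (f : P →ₗ[A] Q) (g : Q →ₗ[A] R) [Module.Flat B C]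
    (h : Exact (f.lTensor B) (g.lTensor B)) : Exact (f.lTensor C) (g.lTensor C) := by
  have h1 : Exact (AlgebraTensorModule.lTensor B B f) (AlgebraTensorModule.lTensor B B g) := h
  have h2 := Module.Flat.lTensor_exact C h1
  let eP := AlgebraTensorModule.cancelBaseChange A B B C P
  let eQ := AlgebraTensorModule.cancelBaseChange A B B C Q
  let eR := AlgebraTensorModule.cancelBaseChange A B B C R
  have hf : ∀ t, eQ ((AlgebraTensorModule.lTensor B B f).lTensor C t) = f.lTensor C (eP t) := by
    intro t
    induction t with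
    | zero => simp
    | add x y hx hy => simp only [map_add, hx, hy]
    | tmul c y =>
      induction y with
      | zero => simp
      | add x y hx hy => simp only [TensorProduct.tmul_add, map_add, hx, hy]
      | tmul b p =>
        simp [eP, eQ]
  have hg : ∀ t, eR ((AlgebraTensorModule.lTensor B B g).lTensor C t) = g.lTensor C (eQ t) := by
    intro t
    induction t with
    | zero => simp
    | add x y hx hy => simp only [map_add, hx, hy]
    | tmul c y =>
      induction y with
      | zero => simp
      | add x y hx hy => simp only [TensorProduct.tmul_add, map_add, hx, hy]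
      | tmul b p =>
        simp [eR, eQ]
  intro z
  obtain ⟨z, rfl⟩ := eQ.surjective z
  rw [← hg]
  constructor
  · intro hz
    obtain ⟨w, rfl⟩ := (h2 z).1 (eR.injective (by rw [hz, map_zero]))
    exact ⟨eP w, (hf w).symm⟩
  · rintro ⟨w, hw⟩
    obtain ⟨w, rfl⟩ := eP.surjective w
    rw [← hf] at hw
    rw [(h2 z).2 ⟨w, eQ.injective hw⟩, map_zero]

/-- `Tor^A(B, N) = 0` implies `Tor^A(C, N) = 0` for `C` flat over `B`. -/
theorem tor_of_flat [Module.Flat B C] (p : ℕ) (h : Subsingleton (DRing.Tor A (p + 1) B N)) :
    Subsingleton (DRing.Tor A (p + 1) C N) := by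
  let P : ProjectiveResolution (ModuleCat.of A N) := ProjectiveResolution.of _
  rw [subsingleton_tor_succ_iff _ N P p] at h ⊢
  exact exact_cancel _ _ h

/-- Locality in the first variable. -/
theorem tor_of_span (s : Set B) (hs : Ideal.span s = ⊤) (D : s → Type u) [∀ r, CommRing (D r)]
    [∀ r, Algebra A (D r)] [∀ r, Algebra B (D r)] [∀ r, IsScalarTower A B (D r)]
    [∀ r : s, IsLocalization.Away r.1 (D r)] (p : ℕ)
    (h : ∀ r, Subsingleton (DRing.Tor A (p + 1) (D r) N)) : Subsingleton (DRing.Tor A (p + 1) B N) := by
  let P : ProjectiveResolution (ModuleCat.of A N) := ProjectiveResolution.of _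
  rw [subsingleton_tor_succ_iff _ N P p]
  let g : ∀ r : s, B →ₗ[B] D r := fun r => Algebra.linearMap B (D r)
  have hg : ∀ r : s, IsLocalizedModule (Submonoid.powers r.1) (g r) := fun r => inferInstance
  refine exact_of_isLocalized_span (R := B) s hs
    (fun r => D r ⊗[A] (P.complex.X (p + 2)))
    (fun r => AlgebraTensorModule.rTensor A _ (g r))
    (fun r => D r ⊗[A] (P.complex.X (p + 1)))
    (fun r => AlgebraTensorModule.rTensor A _ (g r))
    (fun r => D r ⊗[A] (P.complex.X p))
    (fun r => AlgebraTensorModule.rTensor A _ (g r))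
    (AlgebraTensorModule.lTensor B B (dd P (p + 1))) (AlgebraTensorModule.lTensor B B (dd P p)) fun r => ?_
  have h1 := (subsingleton_tor_succ_iff _ N P p).1 (h r)
  rw [IsLocalizedModule.map_lTensor, IsLocalizedModule.map_lTensor]
  exact h1

section Epi

variable (A₁ : Type u) [CommRing A₁] [Algebra A A₁] [Algebra.IsEpi A A₁] (M : Type u) [AddCommGroup M] [Module A M]
  [Module A₁ M] [IsScalarTower A A₁ M]

/-- `A₁ ⊗_A M = M` for an `A₁`-module `M`, `A → A₁` an epimorphism. -/
noncomputable def epiEquiv : A₁ ⊗[A] M ≃ₗ[A₁] M :=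
  LinearEquiv.ofBijective (LinearMap.liftBaseChange A₁ (LinearMap.id : M →ₗ[A] M)) (by
    constructor
    · have h := Algebra.injective_lift_lsmul A A₁ M
      have h1 : (LinearMap.liftBaseChange A₁ (LinearMap.id : M →ₗ[A] M) : A₁ ⊗[A] M → M) =
          TensorProduct.lift (LinearMap.restrictScalars₁₂ A A (LinearMap.lsmul A₁ M)) := by
        funext t
        induction t with
        | zero => simp
        | add x y hx hy => simp only [map_add, hx, hy]
        | tmul a m => simp
      rw [h1]
      exact h
    · intro m
      exact ⟨1 ⊗ₜ m, by simp⟩)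

/-- Change of the base ring along a flat epimorphism. -/
theorem tor_of_epi [Module.Flat A A₁] (M' : Type u) [AddCommGroup M'] [Module A M']
    [Module A₁ M'] [IsScalarTower A A₁ M'] (p : ℕ) (h : Subsingleton (DRing.Tor A (p + 1) M' M)) :
    Subsingleton (DRing.Tor A₁ (p + 1) M' M) :=
  (tor_congr_right (epiEquiv A₁ M) (p + 1) M').1 ((tor_baseChange_iff (B := A) (C := A₁) M p M').1 h)

end Epi

end K266.TorLoc
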