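import Groth.Agent.Krr.H471.HVan
import Groth.Agent.Krr.H471.PBTwist
import Groth.Agent.Krr.H501.RegLen
import Groth.Agent.Krr.H496.ExcBundle
import Groth.Agent.Krr.H446.BlowDesc
import Groth.Agent.Krr.H470.BlowMain
import Groth.Agent.Sga2.ThickCoh
import Groth.Agent.Flat2H.SmoothSection
import Groth.Agent.Flat2C.BlowExist
import Groth.Agent.Ega4dB.BlowUpChart

/-!
# The blow-up of affine space along the origin

* `van_pow`: for a regular closed immersion `i : Y ⟶ X` of codimension `r + 1`, `X` Noetherian, and a blow-up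
  `b : X' ⟶ X` along `Y`: `R^q b_* (J'^n) = 0` for `n ≥ 0`, `q ≥ 1`.
* `exists_univ`: the blow-up of `𝔸^{r+1}_R` (`R` a Noetherian domain) along the origin.
-/

set_option autoImplicit false
universe u

open CategoryTheory CategoryTheory.Limits AlgebraicGeometry

namespace K266.UnivBlow

open Groth.Agent Groth.Agent.Divis.BlowChart Groth.Agent.Krr.H471

variable {X Y X' : Scheme.{u}}

/-- The higher direct images of the powers of the exceptional ideal, `X` Noetherian. -/
theorem van_pow [IsNoetherian X] (i : Y ⟶ X) [IsClosedImmersion i] {r : ℕ}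
    (hi : Mor2.IsRegularClosedImmersion i) (hC : FlatMod.IsFinLocFreeOfRank (r + 1) (Omega.conormal i))
    (b : X' ⟶ X) (hb : BlowUp.IsBlowUp b i.ker) (n q : ℕ) (hq : 1 ≤ q) :
    IsZero ((Coh.RpushAb b q).obj (Coh.toAb (ClSub.idealMod ((i.ker.comap b) ^ n)))) := by
  have hsq : IsPullback (pullback.fst b i) (pullback.snd b i) b i := IsPullback.of_hasPullback b i
  have : IsClosedImmersion (pullback.fst b i) := inferInstance
  have hker : (pullback.fst b i).ker = i.ker.comap b := by
    rw [Scheme.IdealSheafData.ker_fst_of_isClosedImmersion]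
  have : IsNoetherian Y := PBTwist.isNoetherian_of_isClosedImmersion i
  have hB := Krr.H496.ExcBundle.isProjBundle_exc hi hb hsq
  have hT := PBTwist.isTwist_of_isProjBundle hC hB
  have hT' : ChartVan.IsTwist r (pullback.snd b i) ((Scheme.Modules.pullback (pullback.fst b i)).obj
      (ClSub.idealMod (i.ker.comap b))) 1 := by
    rw [← hker]
    exact hT
  have : IsProper b := Flat2C.BlowProper.isProper_of_isBlowUp hb fun U => by
    have := IsLocallyNoetherian.component_noetherian U
    exact IsNoetherian.noetherian _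
  have h := Krr.H446.BlowDesc.blowUp_van_pow i b hb (pullback.fst b i) (pullback.snd b i) hker hsq.w
    (fun n q hq => HVan.isZero_RpushAb_pullback_tensorPow (pullback.fst b i)
      (Ega1.IdealGen.isInvertible_idealMod _ hb.1) hT' n q hq) n q hq
  obtain ⟨e⟩ := Sga2.ThickCoh.idealMod_pow hb.1 n
  exact h.of_iso ((Coh.RpushAb b q).mapIso ((SheafOfModules.toSheaf _).mapIso e.symm))

section Univ

variable (R : Type u) [CommRing R] (r : ℕ)

/-- The coordinate ring of `𝔸^{r+1}_R`. -/
abbrev P : Type u := MvPolynomial (Fin (r + 1)) R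

/-- The coordinates. -/
noncomputable abbrev vars : List (P R r) := List.ofFn (MvPolynomial.X : Fin (r + 1) → P R r)

/-- The ideal of the origin. -/
noncomputable abbrev J₀ : Ideal (P R r) := Ideal.ofList (vars R r)

/-- The origin. -/
noncomputable abbrev i₀ : Spec (CommRingCat.of (P R r ⧸ J₀ R r)) ⟶ Spec (CommRingCat.of (P R r)) :=
  Spec.map (CommRingCat.ofHom (Ideal.Quotient.mk (J₀ R r)))

instance : IsClosedImmersion (i₀ R r) := IsClosedImmersion.spec_of_surjective _ Ideal.Quotient.mk_surjective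

theorem ker_i₀ : (i₀ R r).ker = idl (J₀ R r) := Ega4dB.BlowUpChart.ker_SpecMap_mk _

theorem idl_top {A : Type u} [CommRing A] (I : Ideal A) :
    (idl I).ideal ⟨⊤, isAffineOpen_top _⟩ = I.map (Scheme.ΓSpecIso (CommRingCat.of A)).inv.hom := by
  rw [idl, Scheme.IdealSheafData.ofIdealTop_ideal]
  have h1 : (homOfLE (le_top : (⊤ : (Spec (CommRingCat.of A)).Opens) ≤ ⊤)).op = 𝟙 _ := rfl
  rw [h1, CategoryTheory.Functor.map_id]
  exact Ideal.map_id _

theorem regular_i₀ : Mor2.IsRegularClosedImmersion (i₀ R r) ∧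
    FlatMod.IsFinLocFreeOfRank (r + 1) (Omega.conormal (i₀ R r)) := by
  rw [Krr.H501.RegLen.isRegular_and_rank_iff]
  intro z
  rw [ker_i₀]
  refine ⟨⟨⊤, isAffineOpen_top _⟩, trivial,
    (vars R r).map (Scheme.ΓSpecIso (CommRingCat.of (P R r))).inv.hom, ?_, by simp, ?_⟩
  · exact Divis.RegImm.isWeaklyRegular_map_of_flat _ (RingHom.Flat.of_bijective
      (ConcreteCategory.bijective_of_isIso (Scheme.ΓSpecIso (CommRingCat.of (P R r))).inv))
      (Flat2H.SmoothSection.isWeaklyRegular_X (R := R) (r + 1))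
  · rw [idl_top, J₀, Ideal.map_ofList]

/-- The blow-up of affine space along the origin. -/
theorem univ [IsDomain R] [IsNoetherianRing R] {X' : Scheme.{u}} (b : X' ⟶ Spec (CommRingCat.of (P R r)))
    (hb : BlowUp.IsBlowUp b (idl (J₀ R r))) :
    IsProper b ∧ (∀ n q : ℕ, 1 ≤ q → IsZero ((Coh.RpushAb b q).obj
      (Coh.toAb (ClSub.idealMod (((idl (J₀ R r)).comap b) ^ n))))) ∧
    Nonempty ((Scheme.Modules.pushforward b).obj (Coh.structureModule X') ≅
      Coh.structureModule (Spec (CommRingCat.of (P R r)))) := by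
  obtain ⟨hi, hC⟩ := regular_i₀ R r
  rw [← ker_i₀] at hb ⊢
  have : IsNoetherianRing (CommRingCat.of (P R r)) := inferInstanceAs (IsNoetherianRing (P R r))
  have : IsDomain (CommRingCat.of (P R r)) := inferInstanceAs (IsDomain (P R r))
  refine ⟨Flat2C.BlowProper.isProper_of_isBlowUp hb fun U => ?_, fun n q hq => van_pow _ hi hC b hb n q hq, ?_⟩
  · have := IsLocallyNoetherian.component_noetherian U
    exact IsNoetherian.noetherian _
  · have hI : (i₀ R r).ker ≠ ⊥ := by
      intro h
      rw [ker_i₀] at h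
      have h1 := idl_top (J₀ R r)
      rw [h] at h1
      have h2 : (Scheme.ΓSpecIso (CommRingCat.of (P R r))).inv.hom (MvPolynomial.X 0) = 0 := by
        have h3 : (Scheme.ΓSpecIso (CommRingCat.of (P R r))).inv.hom (MvPolynomial.X 0) ∈
            (J₀ R r).map (Scheme.ΓSpecIso (CommRingCat.of (P R r))).inv.hom :=
          Ideal.mem_map_of_mem _ (Ideal.subset_span (by simp))
        rw [← h1] at h3
        simpa using h3
      have h4 := (ConcreteCategory.bijective_of_isIso (Scheme.ΓSpecIso (CommRingCat.of (P R r))).inv).1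
        (h2.trans (map_zero (Scheme.ΓSpecIso (CommRingCat.of (P R r))).inv.hom).symm)
      exact MvPolynomial.X_ne_zero (0 : Fin (r + 1)) h4
    obtain ⟨hint, -⟩ := S2348.result (i₀ R r).ker hI b hb
    have h := Krr.H470.BlowMain.isIso_unit (i₀ R r) hi (by omega : 1 ≤ r + 1) hC b hb
    exact ⟨((asIso ((Scheme.Modules.pullbackPushforwardAdjunction b).unit.app (Coh.structureModule _))) ≪≫
      (Scheme.Modules.pushforward b).mapIso (Krr.H482.PullTens.pullUnitIso b)).symm⟩

end Univ

end K266.UnivBlow
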